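import Mathlib
import Cfsg.Agent.Lib.Bin77.Tor
import Cfsg.Agent.Lib.PSL2TorMax
import Cfsg.Agent.Lib.PSL2Std

/-!
# Binary actions of `PSL₂`: the four-group witness, generalities
-/

set_option autoImplicit false
set_option linter.style.haveILetI false
set_option linter.unusedVariables false
set_option linter.unusedSectionVars false

namespace Cfsg.Agent.Lib.Bin77

open Matrix Subgroup
open Cfsg.Agent.Lib.SL2Core Cfsg.Agent.Lib.DicksonMat Cfsg.Agent.Lib.DicksonTT
open Cfsg.Agent.Lib.PSL2Std Cfsg.Agent.Lib.PSL2Coat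

variable {F : Type*} [Field F]

lemma four_ne (h2 : (2 : F) ≠ 0) : (4 : F) ≠ 0 := by
  have : (4 : F) = 2 * 2 := by norm_num
  rw [this]
  exact mul_ne_zero h2 h2

lemma neg_one_mem_center : negS (1 : SL2 F) ∈ center (SL2 F) :=
  (mem_center_iff'' _).mpr (by simp [ee_neg, ee_one])

lemma negS_eq (A : SL2 F) : negS A = negS 1 * A := by
  apply ee_ext <;> simp [ee_mul, ee_neg, ee_one]

lemma negS_comm (A : SL2 F) : negS 1 * A = A * negS 1 :=
  (Subgroup.mem_center_iff.mp neg_one_mem_center A).symm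

lemma neg_mul' (A B : SL2 F) : negS A * B = negS (A * B) := by
  rw [negS_eq, negS_eq (A * B), mul_assoc]

lemma mul_neg' (A B : SL2 F) : A * negS B = negS (A * B) := by
  rw [negS_eq, negS_eq (A * B), ← mul_assoc, ← mul_assoc, negS_comm]

lemma neg_neg' (A : SL2 F) : negS (negS A) = A := negS_negS A

lemma neg_inv' (A : SL2 F) : (negS A)⁻¹ = negS A⁻¹ := by
  rw [inv_eq_iff_mul_eq_one, mul_neg', neg_mul', mul_inv_cancel, neg_neg']

lemma neg_ne_self (h2 : (2 : F) ≠ 0) (A : SL2 F) : negS A ≠ A := by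
  intro h
  have h0 := congrArg (fun M => ee M 0 0) h
  have h1 := congrArg (fun M => ee M 0 1) h
  have h3 := congrArg (fun M => ee M 1 0) h
  have h4 := congrArg (fun M => ee M 1 1) h
  simp only [ee_neg] at h0 h1 h3 h4
  have hd := ee_det A
  have z : ∀ x : F, -x = x → x = 0 := by
    intro x hx
    have : 2 * x = 0 := by linear_combination -hx
    exact (mul_eq_zero.mp this).resolve_left h2
  rw [z _ h0, z _ h1] at hd
  simp at hd

/-- `t` noncentral with square `-1`. -/
lemma not_center_of_sq (h2 : (2 : F) ≠ 0) {t : SL2 F} (ht : t * t = negS 1) : t ∉ center (SL2 F) := by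
  intro hc
  rcases center_eq t hc with h | h
  · rw [h, one_mul] at ht
    exact neg_ne_self h2 1 ht.symm
  · rw [h, neg_mul', one_mul, neg_neg'] at ht
    exact neg_ne_self h2 1 ht.symm

lemma tr_sq_zero (h2 : (2 : F) ≠ 0) {t : SL2 F} (ht : t * t = negS 1) : tr t = 0 :=
  tr_of_sq_neg ht

lemma tr_sq_ne (h2 : (2 : F) ≠ 0) {t : SL2 F} (ht : t * t = negS 1) : tr t * tr t ≠ 4 := by
  rw [tr_sq_zero h2 ht, mul_zero]
  exact (four_ne h2).symm

lemma inv_eq_neg {t : SL2 F} (ht : t * t = negS 1) : t⁻¹ = negS t := by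
  rw [inv_eq_iff_mul_eq_one, mul_neg', ht, neg_neg']

lemma proj_ne_one_of_sq (h2 : (2 : F) ≠ 0) {t : SL2 F} (ht : t * t = negS 1) : proj t ≠ 1 := by
  intro h
  exact not_center_of_sq h2 ht (center_of_proj_eq_one h)

lemma proj_sq_of_sq {t : SL2 F} (ht : t * t = negS 1) : proj t * proj t = 1 := by
  rw [← map_mul, ht, proj_negS, map_one]

lemma sq_of_invert [Fintype F] (h2 : (2 : F) ≠ 0) {t R : SL2 F} (ht : t * t = negS 1)
    (hR : R * t * R⁻¹ = t⁻¹) : R * R = negS 1 :=
  inverting_sq (not_center_of_sq h2 ht) (tr_sq_ne h2 ht) hR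

lemma comm_of_conj {G : Type*} [Group G] {x y : G} (h : x * y * x⁻¹ = y) : x * y = y * x := by
  calc x * y = (x * y * x⁻¹) * x := by simp
    _ = y * x := by rw [h]

lemma proj_comm_of_invert {t R : SL2 F} (ht : t * t = negS 1) (hR : R * t * R⁻¹ = t⁻¹) :
    proj R * proj t = proj t * proj R := by
  have h1 : proj R * proj t * (proj R)⁻¹ = proj t := by
    rw [← map_inv, ← map_mul, ← map_mul, hR, inv_eq_neg ht, proj_negS]
  exact comm_of_conj h1

lemma proj_eq_of_conj {x y z : PSL2 F} (h : x * y * x⁻¹ = z) : x * y = z * x := by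
  rw [← h]
  simp

/-- The other inverting elements. -/
lemma invert_mul {t R d : SL2 F} (hR : R * t * R⁻¹ = t⁻¹) (hd : d * t = t * d) :
    (R * d) * t * (R * d)⁻¹ = t⁻¹ := by
  have e : (R * d) * t * (R * d)⁻¹ = R * (d * t * d⁻¹) * R⁻¹ := by group
  rw [e, hd, mul_inv_cancel_right, hR]

lemma invert_conj {t R d : SL2 F} (hR : R * t * R⁻¹ = t⁻¹) (hd : d * t = t * d) :
    (d⁻¹ * R * d) * t * (d⁻¹ * R * d)⁻¹ = t⁻¹ := by
  have e0 : d * t * d⁻¹ = t := by rw [hd, mul_inv_cancel_right]
  have e1 : d⁻¹ * t * d = t := by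
    rw [mul_assoc, ← hd, inv_mul_cancel_left]
  have e : (d⁻¹ * R * d) * t * (d⁻¹ * R * d)⁻¹ = d⁻¹ * (R * (d * t * d⁻¹) * R⁻¹) * d := by group
  rw [e, e0, hR]
  have e2 : d⁻¹ * t⁻¹ * d = (d⁻¹ * t * d)⁻¹ := by group
  rw [e2, e1]

/-- Existence of `d ∈ T` whose `n`th power is not trivial, `T` the torus. -/
lemma exists_pow_ne [Fintype F] {t : SL2 F} (hc : t ∉ center (SL2 F)) (ht : tr t * tr t ≠ 4) {n : ℕ}
    (hn : 0 < n) (hcard : n < Fintype.card F - 1) : ∃ d : SL2 F, d * t = t * d ∧ d ^ n ≠ 1 := by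
  by_contra hall
  push Not at hall
  haveI := isCyclic_TT hc ht
  obtain ⟨g, hg⟩ := IsCyclic.exists_ofOrder_eq_natCard (α := TT t)
  have h1 : (g : SL2 F) ^ n = 1 := hall g (mem_TT.mp g.2)
  have h2 : g ^ n = 1 := Subtype.ext (by simpa using h1)
  have h3 : Nat.card (TT t) ∣ n := by
    rw [← hg]
    exact orderOf_dvd_of_pow_eq_one h2
  have h4 := Nat.le_of_dvd hn h3
  have h5 : Fintype.card F - 1 ≤ Nat.card (TT t) := by
    by_cases hl : ∃ l : F, l * l - tr t * l + 1 = 0
    · obtain ⟨l, hl⟩ := hl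
      rw [Cfsg.Agent.Lib.PSL2Cnt.card_TT_split t hc ht hl]
    · push Not at hl
      rw [Cfsg.Agent.Lib.PSL2Cnt.card_TT_nonsplit t hc ht hl]
      omega
  omega

/-- An inverting element outside `H`. -/
lemma exists_invert_outside [Fintype F] (h2 : (2 : F) ≠ 0) (hq : 6 ≤ Fintype.card F) {H : Subgroup (PSL2 F)}
    {t : SL2 F} (ht : t * t = negS 1)
    (hab : ∀ x ∈ H, ∀ y ∈ H, x * proj t = proj t * x → y * proj t = proj t * y → x * y = y * x) :
    ∃ R : SL2 F, R * t * R⁻¹ = t⁻¹ ∧ proj R ∉ H := by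
  have hc := not_center_of_sq h2 ht
  have htr := tr_sq_ne h2 ht
  obtain ⟨R₀, hR₀⟩ := exists_inverting hc htr
  by_cases h0 : proj R₀ ∉ H
  · exact ⟨R₀, hR₀, h0⟩
  push Not at h0
  obtain ⟨d, hd, hd4⟩ := exists_pow_ne hc htr (n := 4) (by norm_num) (by omega)
  refine ⟨R₀ * d, invert_mul hR₀ hd, ?_⟩
  intro h1
  have h3 : proj d ∈ H := by
    have e : proj d = (proj R₀)⁻¹ * proj (R₀ * d) := by
      rw [map_mul, inv_mul_cancel_left]
    rw [e]
    exact H.mul_mem (H.inv_mem h0) h1
  have hdc : proj d * proj t = proj t * proj d := by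
    rw [← map_mul, ← map_mul, hd]
  have hcomm := hab _ h0 _ h3 (proj_comm_of_invert ht hR₀) hdc
  have hinv := inverting_conj hc hR₀ hd
  -- `proj d` has square one
  have h5 : proj d⁻¹ = proj d := by
    rw [← hinv, map_mul, map_mul, map_inv, hcomm]
    simp
  have h6 : proj (d * d) = 1 := by
    rw [map_mul]
    nth_rewrite 1 [← h5]
    rw [map_inv, inv_mul_cancel]
  have h7 : d * d ∈ center (SL2 F) := center_of_proj_eq_one h6
  rcases center_eq _ h7 with h8 | h8
  · apply hd4
    have : d ^ 4 = (d * d) * (d * d) := by simp only [pow_succ, pow_zero, one_mul, mul_assoc]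
    rw [this, h8, one_mul]
  · apply hd4
    have : d ^ 4 = (d * d) * (d * d) := by simp only [pow_succ, pow_zero, one_mul, mul_assoc]
    rw [this, h8, neg_mul', mul_neg', neg_neg', one_mul]

/-- Elements normalizing the torus commute with the involution. -/
lemma comm_of_normalizer (h2 : (2 : F) ≠ 0) {A : SL2 F} (hA : A * A = negS 1) {c : PSL2 F}
    (hc : c ∈ normalizer ((MM (proj A) : Subgroup (PSL2 F)) : Set (PSL2 F))) :
    c * proj A = proj A * c := by
  obtain ⟨U, rfl⟩ := proj_surjective c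
  have h1 := normalizer_comm hc
  have h3 := conj_cases (not_center_of_sq h2 hA) (tr_sq_ne h2 hA) h1 (tr_conj U A)
  have h4 : proj (U * A * U⁻¹) = proj A := by
    rcases h3 with h | h
    · rw [h]
    · rw [h, inv_eq_neg hA, proj_negS]
  rw [map_mul, map_mul, map_inv] at h4
  exact comm_of_conj h4

/-- Sign analysis: the centralizer of a four-group is the four-group. -/
lemma centralizer_four {t R g : SL2 F} (h2 : (2 : F) ≠ 0) (ht : t * t = negS 1) (hR : R * R = negS 1)
    (hA : R * t = negS (t * R)) (h1 : proj g * proj R = proj R * proj g)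
    (h3 : proj g * proj (R * t) = proj (R * t) * proj g) :
    proj g = 1 ∨ proj g = proj R ∨ proj g = proj (R * t) ∨ proj g = proj t := by
  obtain ⟨S, hS⟩ : ∃ S, S = R * t := ⟨_, rfl⟩
  rw [← hS] at h3 ⊢
  rw [← hS] at hA
  have htR : t * R = negS S := by
    rw [hA, neg_neg']
  have hSS : S * S = negS 1 := by
    calc S * S = R * (t * R) * t := by rw [hS]; simp only [mul_assoc]
      _ = negS (R * (S * t)) := by rw [htR, mul_neg', neg_mul', mul_assoc]
      _ = negS (R * R * (t * t)) := by rw [hS]; simp only [mul_assoc]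
      _ = negS 1 := by
        rw [hR, ht, neg_mul', mul_neg', neg_neg', one_mul]
  have hRS : R * S = negS t := by
    rw [hS, ← mul_assoc, hR, neg_mul', one_mul]
  have hSR : S * R = t := by
    calc S * R = R * (t * R) := by rw [hS, mul_assoc]
      _ = negS (R * S) := by rw [htR, mul_neg']
      _ = t := by rw [hRS, neg_neg']
  have hSRa : S * R = negS (R * S) := by rw [hSR, hRS, neg_neg']
  have hcentral : ∀ X : SL2 F, R * X = X * R → S * X = X * S → proj X = 1 := by
    intro X h4 h5
    apply (proj_eq_one_iff X).mpr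
    by_contra hX
    have h6 := comm_of_comm X R S hX h4 h5
    rw [hSRa] at h6
    exact neg_ne_self h2 _ h6
  have hprojS : proj S * proj S = 1 := by rw [← map_mul, hSS, proj_negS, map_one]
  have hprojR : proj R * proj R = 1 := by rw [← map_mul, hR, proj_negS, map_one]
  have hprojt : proj t * proj t = 1 := by rw [← map_mul, ht, proj_negS, map_one]
  have hdone : ∀ {Y : SL2 F}, proj Y * proj Y = 1 → proj (g * Y) = 1 → proj g = proj Y := by
    intro Y hY h
    rw [map_mul] at h
    calc proj g = proj g * (proj Y * proj Y) := by rw [hY, mul_one]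
      _ = (proj g * proj Y) * proj Y := by rw [mul_assoc]
      _ = proj Y := by rw [h, one_mul]
  -- the two sign conditions
  have hs1 : R * g = g * R ∨ R * g = negS (g * R) := by
    rw [← map_mul, ← map_mul] at h1
    exact (proj_eq_proj_iff' _ _).mp h1
  have hs2 : S * g = g * S ∨ S * g = negS (g * S) := by
    rw [← map_mul, ← map_mul] at h3
    exact (proj_eq_proj_iff' _ _).mp h3
  have hRt : t * S = R := by
    calc t * S = (t * R) * t := by rw [hS, mul_assoc]
      _ = negS (S * t) := by rw [htR, neg_mul']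
      _ = negS (R * (t * t)) := by rw [hS, mul_assoc]
      _ = R := by rw [ht, mul_neg', mul_one, neg_neg']
  have hSt : S * t = negS R := by
    rw [hS, mul_assoc, ht, mul_neg', mul_one]
  rcases hs1 with h4 | h4 <;> rcases hs2 with h5 | h5
  · exact Or.inl (hcentral g h4 h5)
  · -- `g R` centralizes both
    refine Or.inr (Or.inl (hdone hprojR (hcentral _ ?_ ?_)))
    · rw [← mul_assoc, h4]
    · calc S * (g * R) = (S * g) * R := (mul_assoc _ _ _).symm
        _ = negS (g * (S * R)) := by rw [h5, neg_mul', mul_assoc]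
        _ = g * negS (S * R) := by rw [mul_neg']
        _ = g * (R * S) := by rw [hSRa, neg_neg']
        _ = g * R * S := (mul_assoc _ _ _).symm
  · refine Or.inr (Or.inr (Or.inl (hdone hprojS (hcentral _ ?_ ?_))))
    · calc R * (g * S) = (R * g) * S := (mul_assoc _ _ _).symm
        _ = negS (g * (R * S)) := by rw [h4, neg_mul', mul_assoc]
        _ = g * negS (R * S) := by rw [mul_neg']
        _ = g * (S * R) := by rw [hSRa]
        _ = g * S * R := (mul_assoc _ _ _).symm
    · rw [← mul_assoc, h5]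
  · refine Or.inr (Or.inr (Or.inr (hdone hprojt (hcentral _ ?_ ?_))))
    · calc R * (g * t) = (R * g) * t := (mul_assoc _ _ _).symm
        _ = negS (g * (R * t)) := by rw [h4, neg_mul', mul_assoc]
        _ = g * negS (R * t) := by rw [mul_neg']
        _ = g * (t * R) := by rw [← hS, hA, neg_neg']
        _ = g * t * R := (mul_assoc _ _ _).symm
    · calc S * (g * t) = (S * g) * t := (mul_assoc _ _ _).symm
        _ = negS (g * (S * t)) := by rw [h5, neg_mul', mul_assoc]
        _ = g * negS (S * t) := by rw [mul_neg']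
        _ = g * (t * S) := by rw [hSt, hRt, neg_neg']
        _ = g * t * S := (mul_assoc _ _ _).symm

/-- Group theory: an element inverted by `a`, with `a` commuting with its `d`-conjugate. -/
lemma pow_four_of_comm {G : Type*} [Group G] {a d : G} (P : a * d * a⁻¹ = d⁻¹)
    (hc : a * (d⁻¹ * a * d) = (d⁻¹ * a * d) * a) : d ^ 4 = 1 := by
  have h1 : a * d = d⁻¹ * a := by
    rw [← P]
    simp
  have h2 : a * d⁻¹ = d * a := by
    have h3 : a * d⁻¹ * a⁻¹ = d := by
      have : a * d⁻¹ * a⁻¹ = (a * d * a⁻¹)⁻¹ := by group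
      rw [this, P, inv_inv]
    nth_rewrite 2 [← h3]
    simp
  have h3 : a * (d⁻¹ * a * d) = d * d * (a * a) := by
    calc a * (d⁻¹ * a * d) = (a * d⁻¹) * (a * d) := by simp only [mul_assoc]
      _ = (d * a) * (d⁻¹ * a) := by rw [h2, h1]
      _ = d * (a * d⁻¹) * a := by simp only [mul_assoc]
      _ = d * (d * a) * a := by rw [h2]
      _ = d * d * (a * a) := by simp only [mul_assoc]
  have h4 : (d⁻¹ * a * d) * a = d⁻¹ * d⁻¹ * (a * a) := by
    calc (d⁻¹ * a * d) * a = d⁻¹ * (a * d) * a := by simp only [mul_assoc]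
      _ = d⁻¹ * d⁻¹ * (a * a) := by rw [h1]; simp only [mul_assoc]
  rw [h3, h4] at hc
  have h5 := mul_right_cancel hc
  calc d ^ 4 = d * d * (d * d) := by simp only [pow_succ, pow_zero, one_mul, mul_assoc]
    _ = d⁻¹ * d⁻¹ * (d * d) := by rw [h5]
    _ = 1 := by group

/-- The final computation for large tori. -/
lemma octic [Fintype F] (h2 : (2 : F) ≠ 0) {H : Subgroup (PSL2 F)} {t A : SL2 F} (ht : t * t = negS 1)
    (hA : A * t * A⁻¹ = t⁻¹)
    (hab : ∀ x ∈ H, ∀ y ∈ H, x * proj t = proj t * x → y * proj t = proj t * y → x * y = y * x)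
    (hH : ∀ d : SL2 F, d * t = t * d → proj (d⁻¹ * A * d) ∈ H) (d : SL2 F) (hd : d * t = t * d) :
    d ^ 8 = 1 := by
  have hc := not_center_of_sq h2 ht
  have h1 : proj A ∈ H := by
    have := hH 1 (by simp)
    simpa using this
  have h3 := hH d hd
  have hcomm := hab _ h1 _ h3 (proj_comm_of_invert ht hA) (proj_comm_of_invert ht (invert_conj hA hd))
  have hinv := inverting_conj hc hA hd
  have P : proj A * proj d * (proj A)⁻¹ = (proj d)⁻¹ := by
    rw [← map_inv, ← map_inv, ← map_mul, ← map_mul, hinv]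
  have h4 : proj d ^ 4 = 1 := by
    apply pow_four_of_comm P
    rw [map_mul, map_mul, map_inv] at hcomm
    exact hcomm
  have h5 : d ^ 4 ∈ center (SL2 F) := by
    apply center_of_proj_eq_one
    rw [map_pow, h4]
  have e : d ^ 8 = d ^ 4 * d ^ 4 := by rw [← pow_add]
  rw [e]
  rcases center_eq _ h5 with h6 | h6 <;> rw [h6]
  · simp
  · rw [neg_mul', mul_neg', neg_neg', one_mul]

/-- Conjugates over a coatom: the closure argument. -/
lemma mem_of_coatom {G : Type*} [Group G] [IsSimpleGroup G] {N K' : Subgroup G} (hN : IsCoatom N)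
    (hK' : K' ≠ ⊤) {f : G} (hf : ∀ c ∈ N, c⁻¹ * f * c ∈ K') : f ∈ N := by
  by_contra hfN
  let S : Set G := {z | ∃ c ∈ N, z = c⁻¹ * f * c}
  let K : Subgroup G := Subgroup.closure S
  have hKK' : K ≤ K' := by
    rw [Subgroup.closure_le]
    rintro _ ⟨c, hc, rfl⟩
    exact hf c hc
  have hfK : f ∈ K := Subgroup.subset_closure ⟨1, N.one_mem, by simp⟩
  have hconj : ∀ n ∈ N, ∀ k ∈ K, n⁻¹ * k * n ∈ K := by
    intro n hn k hk
    induction hk using Subgroup.closure_induction with
    | mem x hx =>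
      obtain ⟨c, hc, rfl⟩ := hx
      apply Subgroup.subset_closure
      refine ⟨c * n, N.mul_mem hc hn, ?_⟩
      group
    | one => simp [K.one_mem]
    | mul x y _ _ hx hy =>
      have : n⁻¹ * (x * y) * n = (n⁻¹ * x * n) * (n⁻¹ * y * n) := by group
      rw [this]
      exact K.mul_mem hx hy
    | inv x _ hx =>
      have : n⁻¹ * x⁻¹ * n = (n⁻¹ * x * n)⁻¹ := by group
      rw [this]
      exact K.inv_mem hx
  have hNL : N ≤ normalizer (K : Set G) := by
    intro n hn
    rw [mem_normalizer_iff]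
    intro k
    constructor
    · intro hk
      have := hconj n⁻¹ (N.inv_mem hn) k hk
      simpa using this
    · intro hk
      have := hconj n hn _ hk
      have e : n⁻¹ * (n * k * n⁻¹) * n = k := by group
      rwa [e] at this
  have htop : normalizer (K : Set G) = ⊤ := by
    by_contra hne
    have h1 := hN.2 (normalizer (K : Set G)) (lt_of_le_of_ne hNL ?_)
    · exact hne h1
    · intro h
      apply hfN
      rw [h]
      exact Subgroup.le_normalizer hfK
  haveI hKn : K.Normal := Subgroup.normalizer_eq_top_iff.mp htop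
  rcases IsSimpleGroup.eq_bot_or_eq_top_of_normal K hKn with h | h
  · apply hfN
    rw [h, Subgroup.mem_bot] at hfK
    rw [hfK]
    exact N.one_mem
  · apply hK'
    rw [eq_top_iff, ← h]
    exact hKK'

end Cfsg.Agent.Lib.Bin77
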