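import Mathlib
import Cfsg.Agent.Lib.Bin77.V4a
import Cfsg.Agent.S0799

/-!
# Binary actions of `PSL₂`: the four-group witness for `q = 7, 9`
-/

set_option autoImplicit false
set_option linter.style.haveILetI false
set_option linter.unusedVariables false
set_option linter.unusedSectionVars false

namespace Cfsg.Agent.Lib.Bin77

open Matrix Subgroup
open Cfsg.Agent.Lib.SL2Core Cfsg.Agent.Lib.DicksonMat Cfsg.Agent.Lib.DicksonTT
open Cfsg.Agent.Lib.PSL2Std Cfsg.Agent.Lib.PSL2Coat Cfsg.Agent.Lib.PSL2Max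

variable {F : Type*} [Field F]

/-- The element `(1 + t + R + t R) / 2` cycling the four-group. -/
lemma exists_omega (h2 : (2 : F) ≠ 0) {t R : SL2 F} (ht : t * t = negS 1) (hR : R * R = negS 1)
    (hA : R * t = negS (t * R)) : ∃ ω : SL2 F, ω * R = (t * R) * ω ∧ ω * (t * R) = t * ω := by
  have ht0 := tr_of_sq_neg ht
  have hR0 := tr_of_sq_neg hR
  rw [ee_tr] at ht0 hR0
  have ht11 : ee t 1 1 = - ee t 0 0 := by linear_combination ht0
  have hR11 : ee R 1 1 = - ee R 0 0 := by linear_combination hR0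
  obtain ⟨a, ha⟩ : ∃ a, a = ee t 0 0 := ⟨_, rfl⟩
  obtain ⟨b, hb⟩ : ∃ b, b = ee t 0 1 := ⟨_, rfl⟩
  obtain ⟨c, hc⟩ : ∃ c, c = ee t 1 0 := ⟨_, rfl⟩
  obtain ⟨e, he⟩ : ∃ e, e = ee R 0 0 := ⟨_, rfl⟩
  obtain ⟨f, hf⟩ : ∃ f, f = ee R 0 1 := ⟨_, rfl⟩
  obtain ⟨h, hh⟩ : ∃ h, h = ee R 1 0 := ⟨_, rfl⟩
  have hdt := ee_det t
  have hdR := ee_det R
  rw [ht11, ← ha, ← hb, ← hc] at hdt
  rw [hR11, ← he, ← hf, ← hh] at hdR
  have hA1 : -(a * a) - b * c - 1 = 0 := by linear_combination hdt
  have hA2 : -(e * e) - f * h - 1 = 0 := by linear_combination hdR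
  have hA3 : 2 * (a * e) + f * c + b * h = 0 := by
    have := congrArg (fun M => ee M 0 0) hA
    simp only [ee_mul, ee_neg, ← ha, ← hb, ← hc, ← he, ← hf, ← hh] at this
    linear_combination this
  obtain ⟨i, hi⟩ : ∃ i : F, 2 * i = 1 := ⟨2⁻¹, mul_inv_cancel₀ h2⟩
  have hdet : (i * (1 + a + e + (a * e + b * h))) * (i * (1 - a - e + (c * f + a * e)))
      - (i * (b + f + (a * f - b * e))) * (i * (c + h + (c * e - a * h))) = 1 := by
    linear_combination i * i * ((1 - f * h - e * e) * hA1 + 2 * hA2) + (2 * i + 1) * hi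
  refine ⟨mk2 _ _ _ _ hdet, ?_, ?_⟩
  · apply ee_ext <;> simp only [ee_mul, ee_mk00, ee_mk01, ee_mk10, ee_mk11, ht11, hR11, ← ha, ← hb, ← hc,
      ← he, ← hf, ← hh]
    · linear_combination i * ((-(f * h) - e - e * e) * hA1 + (-(b * h) - a - a * e) * hA3)
    · linear_combination i * ((-f) * hA1 + (-b + b * e - a * f) * hA3)
    · linear_combination i * ((-h) * hA1 + (-c - c * e + a * h) * hA3)
    · linear_combination i * ((-(f * h) + e - e * e) * hA1 + (-(c * f) + a - a * e) * hA3)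
  · apply ee_ext <;> simp only [ee_mul, ee_mk00, ee_mk01, ee_mk10, ee_mk11, ht11, hR11, ← ha, ← hb, ← hc,
      ← he, ← hf, ← hh]
    · linear_combination i * ((1 + f * h + e * e) * hA1 + (-1 + a) * hA2 + (e + b * h + a * e) * hA3)
    · linear_combination i * (b * hA2 + (f - b * e + a * f) * hA3)
    · linear_combination i * (c * hA2 + (h + c * e - a * h) * hA3)
    · linear_combination i * ((1 + f * h + e * e) * hA1 + (-1 - a) * hA2 + (-e + c * f + a * e) * hA3)

/-- Fourth roots of unity in the torus. -/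
lemma fourth_root (h2 : (2 : F) ≠ 0) {t u : SL2 F} (ht : t * t = negS 1) (hu : u * t = t * u)
    (h4 : u ^ 4 = 1) : proj u = 1 ∨ proj u = proj t := by
  have htc := not_center_of_sq h2 ht
  have hv : u * u ∈ center (SL2 F) := by
    by_contra hc
    apply mul_self_ne_one' h2 hc
    rw [← h4]
    simp only [pow_succ, pow_zero, one_mul, mul_assoc]
  rcases center_eq _ hv with h5 | h5
  · left
    apply (proj_eq_one_iff u).mpr
    by_contra hc
    exact mul_self_ne_one' h2 hc h5
  · right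
    have h0 := tr_of_sq_neg h5
    obtain ⟨α, β, hl⟩ := exists_linear t u htc hu
    have hB00 := hl 0 0
    have hB01 := hl 0 1
    have hB10 := hl 1 0
    have hB11 := hl 1 1
    simp only [if_true, if_false, mul_one, mul_zero, zero_add, Fin.isValue, zero_ne_one, one_ne_zero] at hB00 hB01 hB10 hB11
    have ht0 := tr_of_sq_neg ht
    rw [ee_tr] at ht0 h0
    rw [hB00, hB11] at h0
    have hα : α = 0 := by
      have : 2 * α = 0 := by linear_combination h0 - β * ht0
      exact (mul_eq_zero.mp this).resolve_left h2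
    rw [hα, zero_add] at hB00 hB11
    have hdu := ee_det u
    have hdt := ee_det t
    rw [hB00, hB01, hB10, hB11] at hdu
    have hβ : (β - 1) * (β + 1) = 0 := by linear_combination hdu - β * β * hdt
    symm
    apply (proj_eq_proj_iff' _ _).mpr
    rcases mul_eq_zero.mp hβ with h6 | h6
    · left
      have h7 : β = 1 := sub_eq_zero.mp h6
      apply ee_ext <;> simp only [hB00, hB01, hB10, hB11, h7, one_mul]
    · right
      have h7 : β = -1 := by linear_combination h6
      apply ee_ext <;> simp only [hB00, hB01, hB10, hB11, h7, ee_neg] <;> ring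

/-- Fusion in the four-group when the torus has exponent eight. -/
lemma fusion [Fintype F] (h2 : (2 : F) ≠ 0) {t R X : SL2 F} (ht : t * t = negS 1)
    (hR : R * t * R⁻¹ = t⁻¹) (h8 : ∀ d : SL2 F, d * t = t * d → d ^ 8 = 1)
    (hX : (proj X)⁻¹ * proj (R * t) * proj X = proj t) :
    (proj X)⁻¹ * proj R * proj X = proj R ∨ (proj X)⁻¹ * proj R * proj X = proj (R * t) := by
  have hRR := sq_of_invert h2 ht hR
  have hinv := inv_eq_neg ht
  have hcT : t ∉ center (SL2 F) := not_center_of_sq h2 ht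
  have hA : R * t = negS (t * R) := by
    have h1 : R * t = t⁻¹ * R := by
      rw [← hR]
      simp
    rw [h1, hinv, neg_mul']
  have htR : proj (t * R) = proj (R * t) := by
    rw [hA, proj_negS]
  obtain ⟨ω, h1, h3⟩ := exists_omega h2 ht hRR hA
  -- abbreviations in `PSL₂`
  obtain ⟨w, hw⟩ : ∃ w : PSL2 F, w = proj ω := ⟨_, rfl⟩
  obtain ⟨r, hr⟩ : ∃ r : PSL2 F, r = proj R := ⟨_, rfl⟩
  obtain ⟨s, hs⟩ : ∃ s : PSL2 F, s = proj (R * t) := ⟨_, rfl⟩
  obtain ⟨τ, hτ⟩ : ∃ τ : PSL2 F, τ = proj t := ⟨_, rfl⟩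
  obtain ⟨x, hx⟩ : ∃ x : PSL2 F, x = proj X := ⟨_, rfl⟩
  have e1 : w * r = s * w := by
    have := congrArg proj h1
    rwa [map_mul proj ω R, map_mul proj (t * R) ω, htR, ← hw, ← hr, ← hs] at this
  have e2 : w * s = τ * w := by
    have := congrArg proj h3
    rwa [map_mul proj ω (t * R), map_mul proj t ω, htR, ← hw, ← hs, ← hτ] at this
  rw [← hx, ← hs, ← hτ] at hX
  rw [← hx, ← hr, ← hs]
  -- the element `E = X⁻¹ ω⁻¹` centralises `τ`
  obtain ⟨E, hE⟩ : ∃ E : SL2 F, E = X⁻¹ * ω⁻¹ := ⟨_, rfl⟩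
  have hEp : proj E = x⁻¹ * w⁻¹ := by
    rw [hE, map_mul, map_inv, map_inv, hx, hw]
  have hEτ : proj E * τ * (proj E)⁻¹ = τ := by
    rw [hEp]
    have e3 : w⁻¹ * τ * w = s := by
      rw [mul_assoc, ← e2, inv_mul_cancel_left]
    calc x⁻¹ * w⁻¹ * τ * (x⁻¹ * w⁻¹)⁻¹ = x⁻¹ * (w⁻¹ * τ * w) * x := by group
      _ = x⁻¹ * s * x := by rw [e3]
      _ = τ := hX
  have hmain : x⁻¹ * r * x = proj E * s * (proj E)⁻¹ := by
    rw [hEp]
    have e3 : w * r * w⁻¹ = s := by
      rw [e1]
      simp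
    rw [← e3]
    group
  rw [hmain]
  -- the case `E` in the torus
  have hTorus : ∀ D : SL2 F, D * t = t * D →
      proj D * s * (proj D)⁻¹ = r ∨ proj D * s * (proj D)⁻¹ = s := by
    intro D hD
    have hS : (R * t) * t * (R * t)⁻¹ = t⁻¹ := invert_mul hR rfl
    have h5 := inverting_conj hcT hS hD
    have h6 : D * D * (D * D) * (D * D) * (D * D) = 1 := by
      have := h8 D hD
      rw [← this]
      simp only [pow_succ, pow_zero, one_mul, mul_assoc]
    have hD2 : (D * D) * t = t * (D * D) := by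
      rw [mul_assoc, hD, ← mul_assoc, hD, mul_assoc]
    have h7 := fourth_root h2 ht hD2 (by
      rw [← h6]
      simp only [pow_succ, pow_zero, one_mul, mul_assoc])
    have e3 : proj D * s * (proj D)⁻¹ = proj (D * D) * s := by
      have h9 : s * proj D * s⁻¹ = (proj D)⁻¹ := by
        have h10 := congrArg proj h5
        rwa [map_mul, map_mul, map_inv, map_inv, ← hs] at h10
      have h10 : s * (proj D)⁻¹ * s⁻¹ = proj D := by
        have : s * (proj D)⁻¹ * s⁻¹ = (s * proj D * s⁻¹)⁻¹ := by group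
        rw [this, h9, inv_inv]
      have h11 : s * (proj D)⁻¹ = proj D * s := by
        calc s * (proj D)⁻¹ = (s * (proj D)⁻¹ * s⁻¹) * s := by simp
          _ = proj D * s := by rw [h10]
      rw [mul_assoc, h11, map_mul, mul_assoc]
    rw [e3]
    rcases h7 with h9 | h9
    · right
      rw [h9, one_mul]
    · left
      have e6 : t * R = negS (R * t) := by rw [hA, neg_neg']
      have e7 : t * (R * t) = R := by
        rw [← mul_assoc, e6, neg_mul', mul_assoc, ht, mul_neg', mul_one, neg_neg']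
      rw [h9, hs, hr, ← map_mul, e7]
  -- `E` centralises up to sign
  have hsign : E * t * E⁻¹ = t ∨ E * t * E⁻¹ = negS t := by
    have : proj t = proj (E * t * E⁻¹) := by
      rw [map_mul, map_mul, map_inv, ← hτ]
      exact hEτ.symm
    exact (proj_eq_proj_iff' _ _).mp this
  rcases hsign with h5 | h5
  · have hD : E * t = t * E := by
      nth_rewrite 2 [← h5]
      simp
    exact hTorus E hD
  · -- `R⁻¹ E` lies in the torus
    have hD : (R⁻¹ * E) * t = t * (R⁻¹ * E) := by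
      have h6 : E * t = negS (t * E) := by
        have : E * t = (E * t * E⁻¹) * E := by simp
        rw [this, h5, neg_mul']
      have h7 : R⁻¹ * t = negS (t * R⁻¹) := by
        have h8 : R⁻¹ = negS R := inv_eq_neg hRR
        rw [h8, neg_mul', mul_neg', hA, neg_neg']
      rw [mul_assoc, h6, mul_neg', ← mul_assoc, h7, neg_mul', neg_neg', mul_assoc]
    have h6 := hTorus _ hD
    have hrs : r * s = s * r := by
      rw [hr, hs, ← map_mul, ← map_mul]
      have h7 : R * (R * t) = negS t := by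
        rw [← mul_assoc, hRR, neg_mul', one_mul]
      have h8 : (R * t) * R = t := by
        have h9 : t * R = negS (R * t) := by rw [hA, neg_neg']
        rw [mul_assoc, h9, mul_neg', ← mul_assoc, hRR, neg_mul', one_mul, neg_neg']
      rw [h7, h8, proj_negS]
    have hrr : r * r = 1 := by
      rw [hr, ← map_mul, hRR, proj_negS, map_one]
    have hE2 : proj E = r * proj (R⁻¹ * E) := by
      rw [map_mul, map_inv, ← hr, mul_inv_cancel_left]
    rw [hE2]
    have hconj : ∀ z : PSL2 F, z = r ∨ z = s → r * z * r⁻¹ = z := by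
      intro z hz
      rcases hz with rfl | rfl
      · simp
      · rw [hrs]
        simp
    rcases h6 with h7 | h7
    · left
      calc r * proj (R⁻¹ * E) * s * (r * proj (R⁻¹ * E))⁻¹
          = r * (proj (R⁻¹ * E) * s * (proj (R⁻¹ * E))⁻¹) * r⁻¹ := by group
        _ = r := by rw [h7, hconj r (Or.inl rfl)]
    · right
      calc r * proj (R⁻¹ * E) * s * (r * proj (R⁻¹ * E))⁻¹
          = r * (proj (R⁻¹ * E) * s * (proj (R⁻¹ * E))⁻¹) * r⁻¹ := by group
        _ = s := by rw [h7, hconj s (Or.inr rfl)]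

section small

variable [Fintype F]

lemma gcd_of_small (hq : Fintype.card F = 7 ∨ Fintype.card F = 9) : Nat.gcd 2 (Fintype.card F - 1) = 2 := by
  rcases hq with h | h <;> rw [h] <;> norm_num

lemma card_MM_four (h2 : (2 : F) ≠ 0) (hq : Fintype.card F = 7 ∨ Fintype.card F = 9) {A : SL2 F}
    (hA : A * A = negS 1) : Nat.card (MM (proj A)) = 4 := by
  have hc := not_center_of_sq h2 hA
  have ht := tr_sq_ne h2 hA
  have h1 := Cfsg.Agent.Lib.PSL2Cnt.card_MM_cases A hc ht
  rw [gcd_of_small hq] at h1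
  have hord : orderOf (proj A) = 2 :=
    orderOf_eq_prime (by rw [pow_two]; exact proj_sq_of_sq hA) (proj_ne_one_of_sq h2 hA)
  have hmem : proj A ∈ MM (proj A) := mem_MM_proj.mpr rfl
  have h3 : 2 ∣ Nat.card (MM (proj A)) := by
    have h4 := Subgroup.orderOf_dvd_natCard _ hmem
    rwa [hord] at h4
  rcases hq with h | h <;> rw [h] at h1 <;> omega

lemma pow_eight_of_small (h2 : (2 : F) ≠ 0) (hq : Fintype.card F = 7 ∨ Fintype.card F = 9) {t : SL2 F}
    (ht : t * t = negS 1) (d : SL2 F) (hd : d * t = t * d) : d ^ 8 = 1 := by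
  have h1 := Cfsg.Agent.Lib.PSL2Cnt.card_MM_mul t
  rw [card_MM_four h2 hq ht, gcd_of_small hq] at h1
  have h3 : (⟨d, mem_TT.mpr hd⟩ : TT t) ^ Nat.card (TT t) = 1 := pow_card_eq_one'
  rw [← h1] at h3
  have := congrArg Subtype.val h3
  simpa using this

lemma overgroup_24 (h2 : (2 : F) ≠ 0) (hq : Fintype.card F = 7 ∨ Fintype.card F = 9) {N L : Subgroup (PSL2 F)}
    (hNL : N ≤ L) (hne : N ≠ L) (hL : L ≠ ⊤) (hN : Nat.card N = 8) {c d : PSL2 F} (hc : c ∈ N) (hd : d ∈ N)
    (h1 : c * d * c⁻¹ * d⁻¹ ≠ 1) (h3 : (c * d * c⁻¹ * d⁻¹) ^ 2 = 1) : Nat.card L = 24 := by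
  obtain ⟨p, hch⟩ := CharP.exists F
  haveI hpf : Fact p.Prime := ⟨CharP.char_is_prime F p⟩
  have hp2 : p ≠ 2 := by
    rintro rfl
    exact h2 (by exact_mod_cast CharP.cast_eq_zero F 2)
  have h8 : 8 ∣ Nat.card L := by
    rw [← hN]
    exact Subgroup.card_dvd_of_le hNL
  have hn8 : Nat.card L ≠ 8 := by
    intro h
    exact hne (Subgroup.eq_of_le_of_card_ge hNL (by rw [hN, h]))
  have hG := card_PSL2_form (K := F)
  rw [gcd_of_small hq] at hG
  have hdvd : Nat.card L ∣ Nat.card (PSL2 F) := Subgroup.card_subgroup_dvd_card L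
  have hLt : Nat.card L ≠ Nat.card (PSL2 F) := by
    intro h
    exact hL (Subgroup.eq_top_of_card_eq L h)
  have hGc : (Fintype.card F = 7 ∧ Nat.card (PSL2 F) = 168) ∨ (Fintype.card F = 9 ∧ Nat.card (PSL2 F) = 360) := by
    rcases hq with h | h
    · left
      rw [h] at hG
      exact ⟨h, by omega⟩
    · right
      rw [h] at hG
      exact ⟨h, by omega⟩
  have hk4 : ∀ k : ℕ, (k ∣ (Fintype.card F + 1) / Nat.gcd 2 (Fintype.card F - 1) ∨
      k ∣ (Fintype.card F - 1) / Nat.gcd 2 (Fintype.card F - 1)) → k ≤ 5 ∧ k ≠ 0 := by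
    intro k hk
    rw [gcd_of_small hq] at hk
    rcases hq with h | h <;> rw [h] at hk <;> norm_num at hk <;> rcases hk with hk | hk
    · exact ⟨Nat.le_of_dvd (by norm_num) hk |>.trans (by norm_num), by rintro rfl; simp at hk⟩
    · exact ⟨Nat.le_of_dvd (by norm_num) hk |>.trans (by norm_num), by rintro rfl; simp at hk⟩
    · exact ⟨Nat.le_of_dvd (by norm_num) hk |>.trans (by norm_num), by rintro rfl; simp at hk⟩
    · exact ⟨Nat.le_of_dvd (by norm_num) hk |>.trans (by norm_num), by rintro rfl; simp at hk⟩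
  rcases Cfsg.Agent.S0799.result (rfl : Fintype.card F = _) p L with
    ⟨k, hk, (⟨-, hcard⟩ | ⟨⟨e⟩⟩)⟩ | ⟨P, K, hK, ⟨e⟩⟩ | ⟨⟨e⟩⟩ | ⟨⟨e⟩⟩ | ⟨⟨e⟩⟩ | ⟨K, _, _, m, hm, (⟨⟨e⟩⟩ | ⟨⟨e⟩⟩)⟩
  · obtain ⟨h5, h0⟩ := hk4 k hk
    rw [hcard] at h8
    have := Nat.le_of_dvd (Nat.pos_of_ne_zero h0) h8
    omega
  · obtain ⟨h5, h0⟩ := hk4 k hk
    have hcard : Nat.card L = 2 * k := by
      rw [Nat.card_congr e.toEquiv, DihedralGroup.nat_card]
    rw [hcard] at h8 hn8
    omega
  · exact ((no_borel_of_comm hp2 (hNL hc) (hNL hd) h1 h3 P hK).false e).elim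
  · have hcard : Nat.card L = 12 := by rw [Nat.card_congr e.toEquiv, card_alt4]
    rw [hcard] at h8
    omega
  · rw [Nat.card_congr e.toEquiv, card_perm4]
  · have hcard : Nat.card L = 60 := by rw [Nat.card_congr e.toEquiv, card_alt5]
    rw [hcard] at h8
    omega
  all_goals
    have hK1 : 1 < Fintype.card K := Fintype.one_lt_card
    have hm0 : m ≠ 0 := by
      rintro rfl
      rw [pow_zero] at hm
      rcases hq with h | h <;> omega
    have hKle : Fintype.card K ≤ 9 := by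
      have h5 : Fintype.card K ≤ Fintype.card K ^ m := Nat.le_self_pow hm0 _
      rcases hq with h | h <;> omega
    have hm3 : m ≤ 3 := by
      by_contra hm4
      have h5 : 2 ^ 4 ≤ Fintype.card K ^ m :=
        (Nat.pow_le_pow_right (by norm_num) (by omega)).trans (Nat.pow_le_pow_left hK1 m)
      rcases hq with h | h <;> omega
  · have hc2 : Nat.gcd 2 (Fintype.card K - 1) * Nat.card L = Fintype.card K * (Fintype.card K ^ 2 - 1) := by
      rw [Nat.card_congr e.toEquiv]
      exact card_PSL2_form (K := K)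
    generalize Fintype.card K = κ at *
    have hm1 : 1 ≤ m := Nat.pos_of_ne_zero hm0
    rcases hGc with ⟨h7, h9⟩ | ⟨h7, h9⟩ <;> rw [h7] at hm <;> rw [h9] at hLt hdvd <;>
      interval_cases κ <;> interval_cases m <;> (try (exfalso; norm_num at hm; done)) <;> norm_num at hc2 <;>
      omega
  · have hc2 : Nat.card L = Fintype.card K * (Fintype.card K ^ 2 - 1) := by
      rw [Nat.card_congr e.toEquiv]
      exact card_PGL2_form (K := K)
    generalize Fintype.card K = κ at *
    have hm1 : 1 ≤ m := Nat.pos_of_ne_zero hm0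
    rcases hGc with ⟨h7, h9⟩ | ⟨h7, h9⟩ <;> rw [h7] at hm <;> rw [h9] at hLt hdvd <;>
      interval_cases κ <;> interval_cases m <;> (try (exfalso; norm_num at hm; done)) <;> norm_num at hc2
    all_goals first
      | exact hc2
      | (rw [hc2] at hdvd; norm_num at hdvd)

/-- The conjugates of `f` under `N` generate a subgroup normalised by `N`. -/
lemma exists_closure {G : Type*} [Group G] {N K' : Subgroup G} {f : G} (hf : ∀ c ∈ N, c⁻¹ * f * c ∈ K') :
    ∃ K : Subgroup G, f ∈ K ∧ K ≤ K' ∧ N ≤ normalizer (K : Set G) := by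
  let S : Set G := {z | ∃ c ∈ N, z = c⁻¹ * f * c}
  let K : Subgroup G := Subgroup.closure S
  have hKK' : K ≤ K' := by
    rw [Subgroup.closure_le]
    rintro _ ⟨c, hc, rfl⟩
    exact hf c hc
  have hfK : f ∈ K := Subgroup.subset_closure ⟨1, N.one_mem, by simp⟩
  have hconj : ∀ n ∈ N, ∀ k ∈ K, n⁻¹ * k * n ∈ K := by
    intro n hn k hk
    induction hk using Subgroup.closure_induction with
    | mem x hx =>
      obtain ⟨c, hc, rfl⟩ := hx
      apply Subgroup.subset_closure
      refine ⟨c * n, N.mul_mem hc hn, ?_⟩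
      group
    | one => simp [K.one_mem]
    | mul x y _ _ hx hy =>
      have : n⁻¹ * (x * y) * n = (n⁻¹ * x * n) * (n⁻¹ * y * n) := by group
      rw [this]
      exact K.mul_mem hx hy
    | inv x _ hx =>
      have : n⁻¹ * x⁻¹ * n = (n⁻¹ * x * n)⁻¹ := by group
      rw [this]
      exact K.inv_mem hx
  refine ⟨K, hfK, hKK', ?_⟩
  intro n hn
  rw [mem_normalizer_iff]
  intro k
  constructor
  · intro hk
    have := hconj n⁻¹ (N.inv_mem hn) k hk
    simpa using this
  · intro hk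
    have := hconj n hn _ hk
    have e : n⁻¹ * (n * k * n⁻¹) * n = k := by group
    rwa [e] at this

/-- The analogue of `mem_of_coatom` for `q = 7, 9`, where normalizers of tori are not maximal. -/
lemma mem_of_small (h2 : (2 : F) ≠ 0) (hq : Fintype.card F = 7 ∨ Fintype.card F = 9) {A : SL2 F}
    (hA : A * A = negS 1) {K' : Subgroup (PSL2 F)} (hK' : K' ≠ ⊤) {f : PSL2 F}
    (hf : ∀ c ∈ normalizer ((MM (proj A) : Subgroup (PSL2 F)) : Set (PSL2 F)), c⁻¹ * f * c ∈ K')
    (hO : ∀ y ∈ K', ∀ z ∈ K', y ^ 3 = 1 → y ≠ 1 → z ^ 3 = 1 → z ≠ 1 → z = y ∨ z = y⁻¹) :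
    f ∈ normalizer ((MM (proj A) : Subgroup (PSL2 F)) : Set (PSL2 F)) := by
  classical
  obtain ⟨N, hNdef⟩ : ∃ N, N = normalizer ((MM (proj A) : Subgroup (PSL2 F)) : Set (PSL2 F)) := ⟨_, rfl⟩
  rw [← hNdef] at hf ⊢
  by_contra hfN
  obtain ⟨K, hfK, hKK', hNK⟩ := exists_closure hf
  obtain ⟨p, hch⟩ := CharP.exists F
  haveI hpf : Fact p.Prime := ⟨CharP.char_is_prime F p⟩
  have hcard4 : 4 ≤ Nat.card F := by
    rw [Nat.card_eq_fintype_card]
    rcases hq with h | h <;> omega
  haveI hs : IsSimpleGroup (PSL2 F) := Matrix.ProjectiveSpecialLinearGroup.rank_two_simple hcard4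
  have hc := not_center_of_sq h2 hA
  have ht := tr_sq_ne h2 hA
  have hMM4 := card_MM_four h2 hq hA
  have hN8 : Nat.card N = 8 := by
    rw [hNdef, card_normalizer_ss p hc ht, hMM4]
  obtain ⟨L, hLdef⟩ : ∃ L, L = normalizer (K : Set (PSL2 F)) := ⟨_, rfl⟩
  rw [← hLdef] at hNK
  have hKL : K ≤ L := by
    rw [hLdef]
    exact Subgroup.le_normalizer
  have hLtop : L ≠ ⊤ := by
    intro h
    rw [hLdef] at h
    haveI hKn : K.Normal := Subgroup.normalizer_eq_top_iff.mp h
    rcases IsSimpleGroup.eq_bot_or_eq_top_of_normal K hKn with h3 | h3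
    · apply hfN
      rw [h3, Subgroup.mem_bot] at hfK
      rw [hfK]
      exact N.one_mem
    · apply hK'
      rw [eq_top_iff, ← h3]
      exact hKK'
  have hNne : N ≠ L := by
    intro h
    apply hfN
    rw [h]
    exact hKL hfK
  -- a cyclic generator and an inverting element
  haveI := (isSS_of p hc ht).cyclic
  obtain ⟨g₀, hg₀⟩ := IsCyclic.exists_ofOrder_eq_natCard (α := MM (proj A))
  rw [hMM4] at hg₀
  have hd4 : (g₀ : PSL2 F) ^ 4 = 1 := by
    have := pow_orderOf_eq_one g₀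
    rw [hg₀] at this
    exact congrArg Subtype.val this
  have hdord : orderOf (g₀ : PSL2 F) = 4 := by
    rw [Subgroup.orderOf_coe, hg₀]
  have hd2 : (g₀ : PSL2 F) * (g₀ : PSL2 F) ≠ 1 := by
    intro h
    have h3 : orderOf (g₀ : PSL2 F) ∣ 2 := orderOf_dvd_of_pow_eq_one (by rw [pow_two]; exact h)
    rw [hdord] at h3
    norm_num at h3
  obtain ⟨D, hD⟩ := proj_surjective (g₀ : PSL2 F)
  have hDT : D * A = A * D := by
    apply mem_MM_proj.mp
    rw [hD]
    exact g₀.2
  obtain ⟨U, hU⟩ := exists_inverting hc ht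
  have hUN : proj U ∈ N := by
    rw [hNdef]
    exact inverting_mem_normalizer hc hU
  have hDN : proj D ∈ N := by
    rw [hNdef, hD]
    exact Subgroup.le_normalizer g₀.2
  have hUD := inverting_conj hc hU hDT
  have hcomm : proj U * proj D * (proj U)⁻¹ * (proj D)⁻¹ = (proj D)⁻¹ * (proj D)⁻¹ := by
    have h3 := congrArg proj hUD
    rw [map_mul, map_mul, map_inv, map_inv] at h3
    rw [h3]
  have hdd : proj D * proj D ≠ 1 := by
    rw [hD]
    exact hd2
  have hL24 := overgroup_24 h2 hq hNK hNne hLtop hN8 hUN hDN (by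
    rw [hcomm]
    intro h
    apply hdd
    have : ((proj D)⁻¹ * (proj D)⁻¹)⁻¹ = 1 := by rw [h, inv_one]
    simpa [_root_.mul_inv_rev] using this) (by
    rw [hcomm, hD]
    have h3 : (g₀ : PSL2 F) ^ 4 * ((g₀ : PSL2 F) ^ 4)⁻¹ = 1 := mul_inv_cancel _
    have e : ((g₀ : PSL2 F)⁻¹ * (g₀ : PSL2 F)⁻¹) ^ 2 = ((g₀ : PSL2 F) ^ 4)⁻¹ := by group
    rw [e, hd4, inv_one])
  -- `K` is not a two-group
  have hKnot : ¬ IsPGroup 2 K := by
    intro hp
    have hNp : IsPGroup 2 N := IsPGroup.of_card (n := 3) (by rw [hN8]; norm_num)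
    have hsup := IsPGroup.to_sup_of_normal_right' hNp hp (by rw [← hLdef]; exact hNK)
    have hle : N ⊔ K ≤ L := sup_le hNK hKL
    have hdvd : Nat.card ((N ⊔ K : Subgroup (PSL2 F))) ∣ 24 := by
      rw [← hL24]
      exact Subgroup.card_dvd_of_le hle
    obtain ⟨n, hn⟩ := (IsPGroup.iff_card.mp hsup)
    have hNs : N ≤ N ⊔ K := le_sup_left
    have h8 : 8 ∣ Nat.card ((N ⊔ K : Subgroup (PSL2 F))) := by
      rw [← hN8]
      exact Subgroup.card_dvd_of_le hNs
    have hn3 : n ≤ 3 := by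
      by_contra hn4
      have h9 : 2 ^ 4 ∣ 24 := by
        have h10 : 2 ^ 4 ∣ 2 ^ n := pow_dvd_pow 2 (by omega)
        rw [← hn] at h10
        exact h10.trans hdvd
      norm_num at h9
    have h10 : Nat.card ((N ⊔ K : Subgroup (PSL2 F))) ≤ 8 := by
      rw [hn]
      calc 2 ^ n ≤ 2 ^ 3 := Nat.pow_le_pow_right (by norm_num) hn3
        _ = 8 := by norm_num
    have heq : N = N ⊔ K := Subgroup.eq_of_le_of_card_ge hNs (by rw [hN8]; exact h10)
    apply hfN
    rw [heq]
    exact (le_sup_right : K ≤ N ⊔ K) hfK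
  have h3K : 3 ∣ Nat.card K := by
    by_contra h3
    apply hKnot
    have hdvd : Nat.card K ∣ 24 := by
      rw [← hL24]
      exact Subgroup.card_dvd_of_le hKL
    have hco : Nat.Coprime (Nat.card K) 3 := by
      rw [Nat.coprime_comm]
      exact (Nat.Prime.coprime_iff_not_dvd Nat.prime_three).mpr h3
    have h8 : Nat.card K ∣ 2 ^ 3 := by
      have e : (24 : ℕ) = 2 ^ 3 * 3 := by norm_num
      rw [e] at hdvd
      exact hco.dvd_of_dvd_mul_right hdvd
    exact IsPGroup.of_card_dvd_pow h8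
  -- Cauchy
  haveI : Fact (Nat.Prime 3) := ⟨Nat.prime_three⟩
  obtain ⟨y, hy⟩ := exists_prime_orderOf_dvd_card' 3 h3K
  have hy3 : (y : PSL2 F) ^ 3 = 1 := by
    have := pow_orderOf_eq_one y
    rw [hy] at this
    exact congrArg Subtype.val this
  have hy1 : (y : PSL2 F) ≠ 1 := by
    intro h
    have : y = 1 := Subtype.ext h
    rw [this, orderOf_one] at hy
    norm_num at hy
  have hyK : (y : PSL2 F) ∈ K := y.2
  -- the conjugate under `g₀`
  have hconj : proj D * (y : PSL2 F) * (proj D)⁻¹ ∈ K :=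
    (mem_normalizer_iff.mp (by rw [← hLdef]; exact hNK hDN) _).mp hyK
  have hconj3 : (proj D * (y : PSL2 F) * (proj D)⁻¹) ^ 3 = 1 := by
    rw [conj_pow, hy3]
    simp
  have hconj1 : proj D * (y : PSL2 F) * (proj D)⁻¹ ≠ 1 := by
    intro h
    apply hy1
    have : (proj D)⁻¹ * (proj D * (y : PSL2 F) * (proj D)⁻¹) * proj D = 1 := by
      rw [h]
      simp
    simpa [mul_assoc] using this
  have hcase := hO _ (hKK' hyK) _ (hKK' hconj) hy3 hy1 hconj3 hconj1
  -- the square of `g₀` centralises `y`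
  have hsq : (proj D * proj D) * (y : PSL2 F) = (y : PSL2 F) * (proj D * proj D) := by
    apply comm_of_conj
    rcases hcase with h | h
    · calc proj D * proj D * (y : PSL2 F) * (proj D * proj D)⁻¹
          = proj D * (proj D * (y : PSL2 F) * (proj D)⁻¹) * (proj D)⁻¹ := by group
        _ = (y : PSL2 F) := by rw [h, h]
    · calc proj D * proj D * (y : PSL2 F) * (proj D * proj D)⁻¹
          = proj D * (proj D * (y : PSL2 F) * (proj D)⁻¹) * (proj D)⁻¹ := by group
        _ = proj D * (y : PSL2 F)⁻¹ * (proj D)⁻¹ := by rw [h]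
        _ = (proj D * (y : PSL2 F) * (proj D)⁻¹)⁻¹ := by group
        _ = (y : PSL2 F) := by rw [h, inv_inv]
  obtain ⟨Y, hY⟩ := proj_surjective (y : PSL2 F)
  have hYtr : tr Y ≠ 0 := by
    rcases tr_of_pow_three (Z := Y) (by rw [hY]; exact hy1) (by rw [hY]; exact hy3) with h | h <;> rw [h]
    · exact one_ne_zero
    · exact neg_ne_zero.mpr one_ne_zero
  -- lifted
  obtain ⟨W, hW⟩ : ∃ W, W = D * D := ⟨_, rfl⟩
  have hWc : W ∉ center (SL2 F) := by
    apply not_center_of_proj_ne_one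
    rw [hW, map_mul]
    exact hdd
  have hWA : A * W = W * A := by
    rw [hW]
    calc A * (D * D) = (A * D) * D := (mul_assoc _ _ _).symm
      _ = (D * A) * D := by rw [hDT]
      _ = D * (A * D) := mul_assoc _ _ _
      _ = D * (D * A) := by rw [hDT]
      _ = D * D * A := (mul_assoc _ _ _).symm
  have hYW : Y * W = W * Y := by
    have h3 : proj (W * Y) = proj (Y * W) := by
      rw [map_mul, map_mul, hW, map_mul, hY]
      exact hsq
    rcases (proj_eq_proj_iff' _ _).mp h3 with h | h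
    · exact h
    · exfalso
      -- the trace of `Y` vanishes
      have h5 : W * Y * W⁻¹ = negS Y := by
        have h6 : W * Y = negS (Y * W) := by rw [h, neg_neg']
        rw [h6, neg_mul', mul_inv_cancel_right]
      have h6 := tr_conj W Y
      rw [h5, tr_negS] at h6
      apply hYtr
      have : 2 * tr Y = 0 := by linear_combination -h6
      exact (mul_eq_zero.mp this).resolve_left h2
  have hAY := comm_of_comm W Y A hWc hYW hWA
  have hmem : (y : PSL2 F) ∈ MM (proj A) := by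
    rw [← hY]
    exact mem_MM_proj.mpr hAY.symm
  have h4 : (y : PSL2 F) ^ 4 = 1 := by
    have h5 : (⟨(y : PSL2 F), hmem⟩ : MM (proj A)) ^ Nat.card (MM (proj A)) = 1 := pow_card_eq_one'
    rw [hMM4] at h5
    exact congrArg Subtype.val h5
  apply hy1
  calc (y : PSL2 F) = (y : PSL2 F) ^ 4 * ((y : PSL2 F) ^ 3)⁻¹ := by group
    _ = 1 := by rw [h4, hy3]; simp

end small

end Cfsg.Agent.Lib.Bin77
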