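import Mathlib
import Cfsg.Agent.Lib.Bin77.V4b

/-!
# Binary actions of `PSL₂`: the four-group witness, main theorem
-/

set_option autoImplicit false
set_option linter.style.haveILetI false
set_option linter.unusedVariables false
set_option linter.unusedSectionVars false

namespace Cfsg.Agent.Lib.Bin77

open Matrix Subgroup
open Cfsg.Agent.Lib.SL2Core Cfsg.Agent.Lib.DicksonMat Cfsg.Agent.Lib.DicksonTT
open Cfsg.Agent.Lib.PSL2Std Cfsg.Agent.Lib.PSL2Coat Cfsg.Agent.Lib.PSL2Max

variable {F : Type*} [Field F] [Fintype F]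

lemma conjSub_ne_top {G : Type*} [Group G] {H : Subgroup G} (hH : H ≠ ⊤) (c : G) : conjSub c H ≠ ⊤ := by
  intro h
  apply hH
  rw [eq_top_iff]
  intro z _
  have h5 : c * z * c⁻¹ ∈ conjSub c H := by rw [h]; trivial
  rw [mem_conjSub] at h5
  have e : c⁻¹ * (c * z * c⁻¹) * c = z := by group
  rwa [e] at h5

lemma conj_form {G : Type*} [Group G] {x y z : G} (h : x * y = z * x) : x * y * x⁻¹ = z := by
  rw [h]
  simp

lemma conj_invert {G : Type*} [Group G] {B C : G} (X : G) (h : B * C * B⁻¹ = C⁻¹) :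
    (X⁻¹ * B * X) * (X⁻¹ * C * X) * (X⁻¹ * B * X)⁻¹ = (X⁻¹ * C * X)⁻¹ := by
  have e : (X⁻¹ * B * X) * (X⁻¹ * C * X) * (X⁻¹ * B * X)⁻¹ = X⁻¹ * (B * C * B⁻¹) * X := by group
  rw [e, h]
  group

/-- Membership in the normalizer from conjugates. -/
lemma mem_norm (h2 : (2 : F) ≠ 0) (hq : 7 ≤ Fintype.card F) {A : SL2 F} (hA : A * A = negS 1)
    {K' : Subgroup (PSL2 F)} (hK' : K' ≠ ⊤) {f : PSL2 F}
    (hf : ∀ c ∈ normalizer ((MM (proj A) : Subgroup (PSL2 F)) : Set (PSL2 F)), c⁻¹ * f * c ∈ K')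
    (hO : (Fintype.card F = 7 ∨ Fintype.card F = 9) →
      ∀ y ∈ K', ∀ z ∈ K', y ^ 3 = 1 → y ≠ 1 → z ^ 3 = 1 → z ≠ 1 → z = y ∨ z = y⁻¹) :
    f ∈ normalizer ((MM (proj A) : Subgroup (PSL2 F)) : Set (PSL2 F)) := by
  by_cases hq79 : Fintype.card F = 7 ∨ Fintype.card F = 9
  · exact mem_of_small h2 hq79 hA hK' hf (hO hq79)
  · push Not at hq79
    have hc := not_center_of_sq h2 hA
    have ht := tr_sq_ne h2 hA
    have hcard4 : 4 ≤ Nat.card F := by
      rw [Nat.card_eq_fintype_card]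
      omega
    haveI hs : IsSimpleGroup (PSL2 F) := Matrix.ProjectiveSpecialLinearGroup.rank_two_simple hcard4
    have hcoat := Cfsg.Agent.Lib.PSL2TorMax.torus_normalizer_coatom hc ht (by omega) hq79.1 hq79.2
      (fun _ => by omega) (by
        intro h11 h12
        rw [h12] at h11
        norm_num at h11
        have hord : orderOf (proj A) = 2 :=
          orderOf_eq_prime (by rw [pow_two]; exact proj_sq_of_sq hA) (proj_ne_one_of_sq h2 hA)
        have hmem : proj A ∈ MM (proj A) := mem_MM_proj.mpr rfl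
        have h3 : 2 ∣ Nat.card (MM (proj A)) := by
          have h4 := Subgroup.orderOf_dvd_natCard _ hmem
          rwa [hord] at h4
        omega)
    exact mem_of_coatom hcoat hK' hf

/-- **The four-group theorem.** -/
theorem v4_case (h2 : (2 : F) ≠ 0) (hq : 7 ≤ Fintype.card F) {H : Subgroup (PSL2 F)} (hH : H ≠ ⊤)
    (hS : Star H) {t : SL2 F} (ht : t * t = negS 1) (htH : proj t ∈ H)
    (hab : ∀ x ∈ H, ∀ y ∈ H, x * proj t = proj t * x → y * proj t = proj t * y → x * y = y * x)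
    (hO : (Fintype.card F = 7 ∨ Fintype.card F = 9) →
      ∀ y ∈ H, ∀ z ∈ H, y ^ 3 = 1 → y ≠ 1 → z ^ 3 = 1 → z ≠ 1 → z = y ∨ z = y⁻¹) : False := by
  have hc := not_center_of_sq h2 ht
  have htr := tr_sq_ne h2 ht
  obtain ⟨R, hR, hRH⟩ := exists_invert_outside h2 (by omega) ht hab
  have hRR := sq_of_invert h2 ht hR
  have hinv := inv_eq_neg ht
  have hSinv : (R * t) * t * (R * t)⁻¹ = t⁻¹ := invert_mul hR rfl
  have hSS := sq_of_invert h2 ht hSinv
  have hA : R * t = negS (t * R) := by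
    have h1 : R * t = t⁻¹ * R := by
      rw [← hR]
      simp
    rw [h1, hinv, neg_mul']
  obtain ⟨S, hSdef⟩ : ∃ S, S = R * t := ⟨_, rfl⟩
  rw [← hSdef] at hSinv hSS
  have hRS : R * S = negS t := by
    rw [hSdef, ← mul_assoc, hRR, neg_mul', one_mul]
  have hSR : S * R = t := by
    have e6 : t * R = negS S := by rw [hSdef, hA, neg_neg']
    calc S * R = R * (t * R) := by rw [hSdef, mul_assoc]
      _ = negS (R * S) := by rw [e6, mul_neg']
      _ = t := by rw [hRS, neg_neg']
  have hRinv := inv_eq_neg hRR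
  have hSinv' := inv_eq_neg hSS
  have hS_R : S * R * S⁻¹ = R⁻¹ := by
    apply conj_form
    rw [hRinv, hSR, neg_mul', hRS, neg_neg']
  have hR_S : R * S * R⁻¹ = S⁻¹ := by
    apply conj_form
    rw [hSinv', hRS, neg_mul', hSR]
  have hSt : S * t = negS R := by
    rw [hSdef, mul_assoc, ht, mul_neg', mul_one]
  have hprojS : proj S = proj R * proj t := by rw [hSdef, map_mul]
  have hRc := not_center_of_sq h2 hRR
  have hSc := not_center_of_sq h2 hSS
  have htrR := tr_sq_zero h2 hRR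
  have htrS := tr_sq_zero h2 hSS
  have htrt := tr_sq_zero h2 ht
  -- Star
  obtain ⟨g, hg1, hg2⟩ := hS (proj R)
  -- conjugating elements
  obtain ⟨U₁, hU₁⟩ := exists_conj R t hRc hc (by rw [htrR, htrt]) (by rw [htrR, mul_zero]; exact (four_ne h2).symm)
  obtain ⟨U₂, hU₂⟩ := exists_conj S t hSc hc (by rw [htrS, htrt]) (by rw [htrS, mul_zero]; exact (four_ne h2).symm)
  obtain ⟨X₁, hX₁⟩ : ∃ X₁, X₁ = U₁⁻¹ := ⟨_, rfl⟩
  obtain ⟨X₂, hX₂⟩ : ∃ X₂, X₂ = U₂⁻¹ := ⟨_, rfl⟩
  have hx₁ : X₁⁻¹ * R * X₁ = t := by rw [hX₁, inv_inv, hU₁]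
  have hx₂ : X₂⁻¹ * S * X₂ = t := by rw [hX₂, inv_inv, hU₂]
  have hpx₁ : (proj X₁)⁻¹ * proj R * proj X₁ = proj t := by
    rw [← hx₁, map_mul, map_mul, map_inv]
  have hpx₂ : (proj X₂)⁻¹ * proj S * proj X₂ = proj t := by
    rw [← hx₂, map_mul, map_mul, map_inv]
  have hO' : ∀ x : PSL2 F, (Fintype.card F = 7 ∨ Fintype.card F = 9) →
      ∀ y ∈ conjSub x H, ∀ z ∈ conjSub x H, y ^ 3 = 1 → y ≠ 1 → z ^ 3 = 1 → z ≠ 1 → z = y ∨ z = y⁻¹ := by
    intro x hq79 y hy z hz h1 h3 h4 h5
    rw [mem_conjSub] at hy hz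
    have hne : ∀ w : PSL2 F, w ≠ 1 → x⁻¹ * w * x ≠ 1 := by
      intro w hw h
      apply hw
      have : x * (x⁻¹ * w * x) * x⁻¹ = 1 := by rw [h]; simp
      simpa [mul_assoc] using this
    have hcube : ∀ w : PSL2 F, w ^ 3 = 1 → (x⁻¹ * w * x) ^ 3 = 1 := by
      intro w hw
      have e : x⁻¹ * w * x = x⁻¹ * w * x⁻¹⁻¹ := by simp
      rw [e, conj_pow, hw]
      simp
    rcases hO hq79 _ hy _ hz (hcube y h1) (hne y h3) (hcube z h4) (hne z h5) with h | h
    · left
      have : x * (x⁻¹ * z * x) * x⁻¹ = x * (x⁻¹ * y * x) * x⁻¹ := by rw [h]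
      simpa [mul_assoc] using this
    · right
      have : x * (x⁻¹ * z * x) * x⁻¹ = x * (x⁻¹ * y * x)⁻¹ * x⁻¹ := by rw [h]
      simpa [mul_assoc] using this
  -- the element `g` centralises `R` and `S`
  have hgR : g ∈ normalizer ((MM (proj R) : Subgroup (PSL2 F)) : Set (PSL2 F)) := by
    apply mem_norm h2 hq hRR (conjSub_ne_top hH (proj X₁)) _ (hO' _)
    intro c hc'
    have hcr := comm_of_normalizer h2 hRR hc'
    rw [mem_conjSub]
    have h3 := hg2 (c * proj X₁) (proj R) (by rw [inv_mul_cancel]; exact H.one_mem) (by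
      have e : (c * proj X₁)⁻¹ * proj R * (c * proj X₁) = (proj X₁)⁻¹ * (c⁻¹ * (proj R * c)) * proj X₁ := by
        group
      rw [e, ← hcr, inv_mul_cancel_left, hpx₁]
      exact htH)
    have e : (c * proj X₁)⁻¹ * g * (c * proj X₁) = (proj X₁)⁻¹ * (c⁻¹ * g * c) * proj X₁ := by group
    rwa [e] at h3
  have hgS : g ∈ normalizer ((MM (proj S) : Subgroup (PSL2 F)) : Set (PSL2 F)) := by
    apply mem_norm h2 hq hSS (conjSub_ne_top hH (proj X₂)) _ (hO' _)
    intro c hc'
    have hcr := comm_of_normalizer h2 hSS hc'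
    rw [mem_conjSub]
    have h3 := hg2 (c * proj X₂) (proj S) (by rw [hprojS, inv_mul_cancel_left]; exact htH) (by
      have e : (c * proj X₂)⁻¹ * proj S * (c * proj X₂) = (proj X₂)⁻¹ * (c⁻¹ * (proj S * c)) * proj X₂ := by
        group
      rw [e, ← hcr, inv_mul_cancel_left, hpx₂]
      exact htH)
    have e : (c * proj X₂)⁻¹ * g * (c * proj X₂) = (proj X₂)⁻¹ * (c⁻¹ * g * c) * proj X₂ := by group
    rwa [e] at h3
  have hg_R := comm_of_normalizer h2 hRR hgR
  have hg_S := comm_of_normalizer h2 hSS hgS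
  obtain ⟨G, hG⟩ := proj_surjective g
  rw [← hG] at hg_R hg_S hg1 hg2
  -- no other element of the coset
  have hnotS : proj S ∉ H := by
    intro h
    apply hRH
    have e : proj R = proj S * (proj t)⁻¹ := by rw [hprojS]; simp
    rw [e]
    exact H.mul_mem h (H.inv_mem htH)
  -- the last step, from the inverting element `A`
  have hlast : ∀ (A X : SL2 F), A * t * A⁻¹ = t⁻¹ →
      (∀ d : SL2 F, d * t = t * d → proj (d⁻¹ * A * d) ∈ H) →
      ((Fintype.card F = 7 ∨ Fintype.card F = 9) → proj A = proj R ∨ proj A = proj S) → False := by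
    intro A X hAt hd hfus
    by_cases hq79 : Fintype.card F = 7 ∨ Fintype.card F = 9
    · have h3 : proj A ∈ H := by
        have := hd 1 (by simp)
        simpa using this
      rcases hfus hq79 with h | h
      · rw [h] at h3
        exact hRH h3
      · rw [h] at h3
        exact hnotS h3
    · push Not at hq79
      have h8 : Fintype.card F ≠ 8 := by
        intro h
        obtain ⟨p, hch⟩ := CharP.exists F
        have hp2 : CharP F 2 := charP_of_card F Nat.prime_two (n := 3) (by norm_num) (by rw [h]; norm_num)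
        exact h2 (by exact_mod_cast CharP.cast_eq_zero F 2)
      obtain ⟨d, hd1, hd8⟩ := exists_pow_ne hc htr (n := 8) (by norm_num) (by omega)
      exact hd8 (octic h2 ht hAt hab hd d hd1)
  rcases centralizer_four h2 ht hRR hA hg_R (by rw [← hSdef]; exact hg_S) with h | h | h | h
  · apply hRH
    rw [h, mul_one] at hg1
    have := H.inv_mem hg1
    simpa using this
  · -- `g = R`: use the second conjugator
    rw [h] at hg1 hg2
    apply hlast (X₂⁻¹ * R * X₂) X₂ _ _ _
    · have := conj_invert X₂ hR_S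
      rwa [hx₂] at this
    · intro d hd
      have h3 := hg2 (proj X₂ * proj d) (proj S) (by rw [hprojS, inv_mul_cancel_left]; exact htH) (by
        have e : (proj X₂ * proj d)⁻¹ * proj S * (proj X₂ * proj d)
            = (proj d)⁻¹ * ((proj X₂)⁻¹ * proj S * proj X₂) * proj d := by group
        rw [e, hpx₂, mul_assoc, ← map_mul, ← hd, map_mul, inv_mul_cancel_left]
        exact htH)
      have e : (proj X₂ * proj d)⁻¹ * proj R * (proj X₂ * proj d) = proj (d⁻¹ * (X₂⁻¹ * R * X₂) * d) := by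
        simp only [map_mul, map_inv]
        group
      rwa [e] at h3
    · intro hq79
      have h8 := pow_eight_of_small h2 hq79 ht
      have h5 := fusion h2 ht hR h8 (X := X₂) (by rw [← hSdef]; exact hpx₂)
      rw [map_mul, map_mul, map_inv]
      rw [← hSdef] at h5
      exact h5
  · -- `g = S`: use the first conjugator
    rw [← hSdef] at h
    rw [h] at hg1 hg2
    apply hlast (X₁⁻¹ * S * X₁) X₁ _ _ _
    · have := conj_invert X₁ hS_R
      rwa [hx₁] at this
    · intro d hd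
      have h3 := hg2 (proj X₁ * proj d) (proj R) (by rw [inv_mul_cancel]; exact H.one_mem) (by
        have e : (proj X₁ * proj d)⁻¹ * proj R * (proj X₁ * proj d)
            = (proj d)⁻¹ * ((proj X₁)⁻¹ * proj R * proj X₁) * proj d := by group
        rw [e, hpx₁, mul_assoc, ← map_mul, ← hd, map_mul, inv_mul_cancel_left]
        exact htH)
      have e : (proj X₁ * proj d)⁻¹ * proj S * (proj X₁ * proj d) = proj (d⁻¹ * (X₁⁻¹ * S * X₁) * d) := by
        simp only [map_mul, map_inv]
        group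
      rwa [e] at h3
    · intro hq79
      have h8 := pow_eight_of_small h2 hq79 ht
      have hSt' : proj (S * t) = proj R := by rw [hSt, proj_negS]
      have h5 := fusion h2 ht hSinv h8 (X := X₁) (by rw [hSt']; exact hpx₁)
      rw [map_mul, map_mul, map_inv, hSt'] at *
      rcases h5 with h6 | h6
      · exact Or.inr h6
      · exact Or.inl h6
  · apply hRH
    rw [h] at hg1
    have e : proj R = proj t * ((proj R)⁻¹ * proj t)⁻¹ := by group
    rw [e]
    exact H.mul_mem htH (H.inv_mem hg1)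

end Cfsg.Agent.Lib.Bin77
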