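import Mathlib
import Cfsg.Agent.Lib.Bin77.V4c
import Cfsg.Agent.Lib.SLTransfer

/-!
# Binary actions of `PSL₂(7)`: overgroups of the alternating group `A₄`
-/

set_option autoImplicit false
set_option linter.style.haveILetI false
set_option linter.unusedVariables false
set_option linter.unusedSectionVars false

namespace Cfsg.Agent.Lib.Bin77

open Matrix Subgroup
open Cfsg.Agent.Lib.SL2Core Cfsg.Agent.Lib.DicksonMat Cfsg.Agent.Lib.DicksonTT
open Cfsg.Agent.Lib.PSL2Std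

namespace Q7

instance fact7 : Fact (Nat.Prime 7) := ⟨by norm_num⟩

abbrev Z7 := ZMod 7
abbrev Q4 := Z7 × Z7 × Z7 × Z7

def mul4 (x y : Q4) : Q4 :=
  (x.1*y.1+x.2.1*y.2.2.1, x.1*y.2.1+x.2.1*y.2.2.2, x.2.2.1*y.1+x.2.2.2*y.2.2.1, x.2.2.1*y.2.1+x.2.2.2*y.2.2.2)
def inv4 (x : Q4) : Q4 := (x.2.2.2, -x.2.1, -x.2.2.1, x.1)
def Qlist : List Q4 := [(1,0,0,1),(6,0,0,6),(2,3,3,5),(5,4,4,2),(0,1,6,0),(0,6,1,0),(4,2,2,3),(3,5,5,4)]
def I4 : Q4 := (2,3,3,5)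
def J4 : Q4 := (0,1,6,0)
def isN (x : Q4) : Prop := mul4 (mul4 x I4) (inv4 x) ∈ Qlist ∧ mul4 (mul4 x J4) (inv4 x) ∈ Qlist
instance instDecIsN (x : Q4) : Decidable (isN x) := by unfold isN; infer_instance
def a4 : Q4 := (0,1,6,1)
def x1 : Q4 := (0,1,6,5)
def x2 : Q4 := (0,1,6,6)
def x3 : Q4 := (0,1,6,4)
def y1 : Q4 := (5,6,5,2)
def y2 : Q4 := (2,0,3,4)
def y3 : Q4 := (6,2,2,2)
def det4 (x : Q4) : Z7 := x.1*x.2.2.2-x.2.1*x.2.2.1

set_option maxRecDepth 100000 in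
lemma dec3 : ∀ x : Q4, det4 x = 1 → isN (mul4 (inv4 a4) x) → isN (mul4 (mul4 (inv4 x1) x) x1) →
   isN (mul4 (mul4 (inv4 x2) x) x2) → isN (mul4 (mul4 (inv4 x3) x) x3) → False := by decide +kernel

def Klist : List Q4 := [mul4 (inv4 a4) y1, mul4 (inv4 a4) y2, mul4 (inv4 a4) y3,
  mul4 (mul4 (inv4 x1) y1) x1, mul4 (mul4 (inv4 x2) y2) x2, mul4 (mul4 (inv4 x3) y3) x3]
def one4 : Q4 := (1,0,0,1)
def neg4 : Q4 := (6,0,0,6)

set_option maxRecDepth 100000 in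
lemma dec2 : ∀ w : Q4, det4 w = 1 → isN w → (mul4 (mul4 w w) w = one4 ∨ mul4 (mul4 w w) w = neg4) →
    w ≠ one4 → w ≠ neg4 →
    Klist.all (fun k => decide (k ∈ Qlist ∨ mul4 (inv4 w) k ∈ Qlist ∨ mul4 w k ∈ Qlist)) = true := by
  decide +kernel

def toQ (A : SL2 Z7) : Q4 := (ee A 0 0, ee A 0 1, ee A 1 0, ee A 1 1)

lemma toQ_mul (A B : SL2 Z7) : toQ (A * B) = mul4 (toQ A) (toQ B) := by
  simp only [toQ, mul4, ee_mul]

lemma toQ_inv (A : SL2 Z7) : toQ A⁻¹ = inv4 (toQ A) := by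
  simp only [toQ, inv4, ee_inv00, ee_inv01, ee_inv10, ee_inv11]

lemma toQ_inj {A B : SL2 Z7} (h : toQ A = toQ B) : A = B := by
  simp only [toQ, Prod.mk.injEq] at h
  exact ee_ext h.1 h.2.1 h.2.2.1 h.2.2.2

lemma toQ_det (A : SL2 Z7) : det4 (toQ A) = 1 := ee_det A

lemma toQ_neg (A : SL2 Z7) : toQ (negS A) = (-(toQ A).1, -(toQ A).2.1, -(toQ A).2.2.1, -(toQ A).2.2.2) := by
  simp only [toQ, ee_neg]

lemma toQ_one : toQ (1 : SL2 Z7) = one4 := by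
  simp only [toQ, ee_one]
  decide

def hab7 : (2 : Z7) * 2 + 3 * 3 = -1 := by decide

def Im : SL2 Z7 := I0 2 3 hab7
def Jm : SL2 Z7 := J0

lemma toQ_I : toQ Im = I4 := by
  change ((2 : Z7), (3 : Z7), (3 : Z7), (-2 : Z7)) = I4
  decide

lemma toQ_J : toQ Jm = J4 := by
  change ((0 : Z7), (1 : Z7), (-1 : Z7), (0 : Z7)) = J4
  decide

lemma toQ_IJ : toQ (Im * Jm) = (4, 2, 2, 3) := by
  rw [toQ_mul, toQ_I, toQ_J]
  decide

lemma hq2 : (2 : Z7) ≠ 0 := by decide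

/-- Elements of the explicit quaternion group lie in `H`. -/
lemma mem_of_Q {H : Subgroup (PSL2 Z7)} (hI : proj Im ∈ H) (hJ : proj Jm ∈ H) {m : SL2 Z7}
    (hm : toQ m ∈ Qlist) : proj m ∈ H := by
  simp only [Qlist, List.mem_cons, List.not_mem_nil, or_false] at hm
  have hn : ∀ E : SL2 Z7, proj E ∈ H → proj (negS E) ∈ H := by
    intro E hE
    rwa [proj_negS]
  rcases hm with h | h | h | h | h | h | h | h
  · have : m = 1 := toQ_inj (by rw [h, toQ_one]; rfl)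
    rw [this, map_one]
    exact H.one_mem
  · have : m = negS 1 := toQ_inj (by rw [h, toQ_neg, toQ_one]; decide)
    rw [this]
    apply hn
    rw [map_one]
    exact H.one_mem
  · have : m = Im := toQ_inj (by rw [h, toQ_I]; rfl)
    rwa [this]
  · have : m = negS Im := toQ_inj (by rw [h, toQ_neg, toQ_I]; decide)
    rw [this]
    exact hn _ hI
  · have : m = Jm := toQ_inj (by rw [h, toQ_J]; rfl)
    rwa [this]
  · have : m = negS Jm := toQ_inj (by rw [h, toQ_neg, toQ_J]; decide)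
    rw [this]
    exact hn _ hJ
  · have : m = Im * Jm := toQ_inj (by rw [h, toQ_IJ])
    rw [this, map_mul]
    exact H.mul_mem hI hJ
  · have : m = negS (Im * Jm) := toQ_inj (by rw [h, toQ_neg, toQ_IJ]; decide)
    rw [this]
    apply hn
    rw [map_mul]
    exact H.mul_mem hI hJ

/-- The membership in the list from an equation in `PSL₂`. -/
lemma mem_Q_of_proj {A : SL2 Z7} (h : proj A = proj Im ∨ proj A = proj Jm ∨ proj A = proj (Im * Jm)) :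
    toQ A ∈ Qlist := by
  rcases h with h | h | h <;> rcases (proj_eq_proj_iff' _ _).mp h.symm with h' | h' <;> rw [h']
  · rw [toQ_I]; decide
  · rw [toQ_neg, toQ_I]; decide
  · rw [toQ_J]; decide
  · rw [toQ_neg, toQ_J]; decide
  · rw [toQ_IJ]; decide
  · rw [toQ_neg, toQ_IJ]; decide

def ea : SL2 Z7 := mk2 0 1 6 1 (by decide)
def ex1 : SL2 Z7 := mk2 0 1 6 5 (by decide)
def ex2 : SL2 Z7 := mk2 0 1 6 6 (by decide)
def ex3 : SL2 Z7 := mk2 0 1 6 4 (by decide)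
def ey1 : SL2 Z7 := mk2 5 6 5 2 (by decide)
def ey2 : SL2 Z7 := mk2 2 0 3 4 (by decide)
def ey3 : SL2 Z7 := mk2 6 2 2 2 (by decide)

theorem q7_core {H : Subgroup (PSL2 Z7)} (hS : Star H) (hI : proj Im ∈ H) (hJ : proj Jm ∈ H)
    (hN : ∀ h ∈ H, (h * proj Im * h⁻¹ = proj Im ∨ h * proj Im * h⁻¹ = proj Jm ∨ h * proj Im * h⁻¹ = proj (Im * Jm)) ∧
      (h * proj Jm * h⁻¹ = proj Im ∨ h * proj Jm * h⁻¹ = proj Jm ∨ h * proj Jm * h⁻¹ = proj (Im * Jm)))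
    {w : PSL2 Z7} (hw : w ∈ H) (hw3 : w ^ 3 = 1) (hw1 : w ≠ 1) : False := by
  have hNq : ∀ M : SL2 Z7, proj M ∈ H → isN (toQ M) := by
    intro M hM
    obtain ⟨h1, h3⟩ := hN _ hM
    constructor
    · rw [← toQ_I, ← toQ_inv, ← toQ_mul, ← toQ_mul]
      apply mem_Q_of_proj
      simpa only [map_mul, map_inv] using h1
    · rw [← toQ_J, ← toQ_inv, ← toQ_mul, ← toQ_mul]
      apply mem_Q_of_proj
      simpa only [map_mul, map_inv] using h3
  obtain ⟨W, rfl⟩ := proj_surjective w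
  have hW3 : W * W * W ∈ center (SL2 Z7) := by
    apply center_of_proj_eq_one
    rw [map_mul, map_mul, ← hw3]
    simp only [pow_succ, pow_zero, one_mul]
  have hW1 : toQ W ≠ one4 := by
    intro h
    apply hw1
    have : W = 1 := toQ_inj (by rw [h, toQ_one])
    rw [this, map_one]
  have hW2 : toQ W ≠ neg4 := by
    intro h
    apply hw1
    have : W = negS 1 := toQ_inj (by rw [h, toQ_neg, toQ_one]; decide)
    rw [this, proj_negS, map_one]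
  have hdec := dec2 (toQ W) (toQ_det W) (hNq W hw) (by
    rw [← toQ_mul, ← toQ_mul]
    rcases center_eq _ hW3 with h | h
    · left
      rw [h, toQ_one]
    · right
      rw [h, toQ_neg, toQ_one]
      decide) hW1 hW2
  rw [List.all_eq_true] at hdec
  have hk : ∀ m : SL2 Z7, toQ m ∈ Klist → proj m ∈ H := by
    intro m hm
    have h3 := hdec _ hm
    rw [decide_eq_true_eq] at h3
    rcases h3 with h | h | h
    · exact mem_of_Q hI hJ h
    · rw [← toQ_inv, ← toQ_mul] at h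
      have h5 := mem_of_Q hI hJ h
      have e : proj m = proj W * proj (W⁻¹ * m) := by
        rw [map_mul, map_inv, mul_inv_cancel_left]
      rw [e]
      exact H.mul_mem hw h5
    · rw [← toQ_mul] at h
      have h5 := mem_of_Q hI hJ h
      have e : proj m = (proj W)⁻¹ * proj (W * m) := by
        rw [map_mul, inv_mul_cancel_left]
      rw [e]
      exact H.mul_mem (H.inv_mem hw) h5
  have hxa : toQ ea = a4 := rfl
  have hx1 : toQ ex1 = x1 := rfl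
  have hx2 : toQ ex2 = x2 := rfl
  have hx3 : toQ ex3 = x3 := rfl
  have hy1 : toQ ey1 = y1 := rfl
  have hy2 : toQ ey2 = y2 := rfl
  have hy3 : toQ ey3 = y3 := rfl
  have hk1 : (proj ea)⁻¹ * proj ey1 ∈ H := by
    have := hk (ea⁻¹ * ey1) (by rw [toQ_mul, toQ_inv, hxa, hy1]; simp [Klist])
    simpa only [map_mul, map_inv] using this
  have hk2 : (proj ea)⁻¹ * proj ey2 ∈ H := by
    have := hk (ea⁻¹ * ey2) (by rw [toQ_mul, toQ_inv, hxa, hy2]; simp [Klist])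
    simpa only [map_mul, map_inv] using this
  have hk3 : (proj ea)⁻¹ * proj ey3 ∈ H := by
    have := hk (ea⁻¹ * ey3) (by rw [toQ_mul, toQ_inv, hxa, hy3]; simp [Klist])
    simpa only [map_mul, map_inv] using this
  have hk1' : (proj ex1)⁻¹ * proj ey1 * proj ex1 ∈ H := by
    have := hk (ex1⁻¹ * ey1 * ex1) (by rw [toQ_mul, toQ_mul, toQ_inv, hx1, hy1]; simp [Klist])
    simpa only [map_mul, map_inv] using this
  have hk2' : (proj ex2)⁻¹ * proj ey2 * proj ex2 ∈ H := by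
    have := hk (ex2⁻¹ * ey2 * ex2) (by rw [toQ_mul, toQ_mul, toQ_inv, hx2, hy2]; simp [Klist])
    simpa only [map_mul, map_inv] using this
  have hk3' : (proj ex3)⁻¹ * proj ey3 * proj ex3 ∈ H := by
    have := hk (ex3⁻¹ * ey3 * ex3) (by rw [toQ_mul, toQ_mul, toQ_inv, hx3, hy3]; simp [Klist])
    simpa only [map_mul, map_inv] using this
  obtain ⟨g, hg1, hg2⟩ := hS (proj ea)
  obtain ⟨G, rfl⟩ := proj_surjective g
  have h1 := hNq (ea⁻¹ * G) (by simpa only [map_mul, map_inv] using hg1)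
  have h3 := hNq (ex1⁻¹ * G * ex1) (by simpa only [map_mul, map_inv] using hg2 _ _ hk1 hk1')
  have h5 := hNq (ex2⁻¹ * G * ex2) (by simpa only [map_mul, map_inv] using hg2 _ _ hk2 hk2')
  have h6 := hNq (ex3⁻¹ * G * ex3) (by simpa only [map_mul, map_inv] using hg2 _ _ hk3 hk3')
  rw [toQ_mul, toQ_inv, hxa] at h1
  rw [toQ_mul, toQ_mul, toQ_inv, hx1] at h3
  rw [toQ_mul, toQ_mul, toQ_inv, hx2] at h5
  rw [toQ_mul, toQ_mul, toQ_inv, hx3] at h6
  exact dec3 _ (toQ_det G) h1 h3 h5 h6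

end Q7

/-- **The subgroups `A₄ ≤ H ≤ S₄` of `PSL₂(7)` do not act binarily.** -/
theorem q7_case {F : Type*} [Field F] [Fintype F] (hq : Fintype.card F = 7) {H : Subgroup (PSL2 F)} (hS : Star H)
    {A' : Type*} [Group A'] (e : H ≃* A') (iA jA w₀ : A') (hi : iA * iA = 1) (hj : jA * jA = 1)
    (hi1 : iA ≠ 1) (hj1 : jA ≠ 1) (hne : iA ≠ jA) (hc : iA * jA = jA * iA)
    (hnorm : ∀ x : A', (x * iA * x⁻¹ = iA ∨ x * iA * x⁻¹ = jA ∨ x * iA * x⁻¹ = iA * jA) ∧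
      (x * jA * x⁻¹ = iA ∨ x * jA * x⁻¹ = jA ∨ x * jA * x⁻¹ = iA * jA))
    (hw : w₀ ^ 3 = 1) (hw1 : w₀ ≠ 1) : False := by
  let φ : ZMod 7 ≃+* F := ZMod.ringEquivOfPrime F (by norm_num) hq
  let Φ : PSL2 F ≃* PSL2 (ZMod 7) := Cfsg.Agent.Lib.SLTransfer.pslEquiv φ.symm
  let H₁ : Subgroup (PSL2 (ZMod 7)) := H.map (Φ : PSL2 F →* PSL2 (ZMod 7))
  let e₁ : H₁ ≃* A' := (Φ.subgroupMap H).symm.trans e
  have hS₁ : Star H₁ := hS.map_equiv Φ
  obtain ⟨θ, e', h1, h3⟩ := exists_position Q7.hq2 Q7.hab7 H₁ e₁ iA jA hi hj hi1 hj1 hne hc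
  have hS₂ := hS₁.map_equiv θ
  have hval : ∀ x y : A', ((e'.symm (x * y) : H₁.map (θ : PSL2 (ZMod 7) →* PSL2 (ZMod 7))) : PSL2 (ZMod 7))
      = ((e'.symm x : H₁.map (θ : PSL2 (ZMod 7) →* PSL2 (ZMod 7))) : PSL2 (ZMod 7)) *
        ((e'.symm y : H₁.map (θ : PSL2 (ZMod 7) →* PSL2 (ZMod 7))) : PSL2 (ZMod 7)) := by
    intro x y
    rw [map_mul]
    rfl
  have hvinv : ∀ x : A', ((e'.symm x⁻¹ : H₁.map (θ : PSL2 (ZMod 7) →* PSL2 (ZMod 7))) : PSL2 (ZMod 7))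
      = ((e'.symm x : H₁.map (θ : PSL2 (ZMod 7) →* PSL2 (ZMod 7))) : PSL2 (ZMod 7))⁻¹ := by
    intro x
    rw [map_inv]
    rfl
  have hIJ : ((e'.symm (iA * jA) : H₁.map (θ : PSL2 (ZMod 7) →* PSL2 (ZMod 7))) : PSL2 (ZMod 7))
      = proj (Q7.Im * Q7.Jm) := by
    rw [hval, h1, h3, map_mul]
    rfl
  refine Q7.q7_core hS₂ (by rw [Q7.Im, ← h1]; exact (e'.symm iA).2) (by rw [Q7.Jm, ← h3]; exact (e'.symm jA).2) ?_
    (e'.symm w₀).2 ?_ ?_
  · intro h hh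
    obtain ⟨x, hx⟩ : ∃ x : A', ((e'.symm x : H₁.map (θ : PSL2 (ZMod 7) →* PSL2 (ZMod 7))) : PSL2 (ZMod 7)) = h :=
      ⟨e' ⟨h, hh⟩, by simp⟩
    have hI' : proj Q7.Im = ((e'.symm iA : H₁.map (θ : PSL2 (ZMod 7) →* PSL2 (ZMod 7))) : PSL2 (ZMod 7)) := h1.symm
    have hJ' : proj Q7.Jm = ((e'.symm jA : H₁.map (θ : PSL2 (ZMod 7) →* PSL2 (ZMod 7))) : PSL2 (ZMod 7)) := h3.symm
    have hconj : ∀ y : A', h * ((e'.symm y : H₁.map (θ : PSL2 (ZMod 7) →* PSL2 (ZMod 7))) : PSL2 (ZMod 7)) * h⁻¹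
        = ((e'.symm (x * y * x⁻¹) : H₁.map (θ : PSL2 (ZMod 7) →* PSL2 (ZMod 7))) : PSL2 (ZMod 7)) := by
      intro y
      rw [hval, hval, hvinv, hx]
    obtain ⟨h5, h6⟩ := hnorm x
    constructor
    · rw [hI', hconj]
      rcases h5 with h7 | h7 | h7 <;> rw [h7]
      · exact Or.inl rfl
      · exact Or.inr (Or.inl h3)
      · exact Or.inr (Or.inr hIJ)
    · rw [hJ', hconj]
      rcases h6 with h7 | h7 | h7 <;> rw [h7]
      · exact Or.inl h1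
      · exact Or.inr (Or.inl rfl)
      · exact Or.inr (Or.inr hIJ)
  · have := congrArg (fun z => ((e'.symm z : H₁.map (θ : PSL2 (ZMod 7) →* PSL2 (ZMod 7))) : PSL2 (ZMod 7))) hw
    simpa only [map_pow, map_one, Subgroup.coe_pow, Subgroup.coe_one] using this
  · intro h
    apply hw1
    have : e'.symm w₀ = 1 := Subtype.ext h
    simpa using this

end Cfsg.Agent.Lib.Bin77
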