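import Mathlib
import Cfsg.Agent.Lib.Bin77.Q7

/-!
# Binary actions of `PSL₂`: subgroups without unipotent elements
-/

set_option autoImplicit false
set_option linter.style.haveILetI false
set_option linter.unusedVariables false
set_option linter.unusedSectionVars false

namespace Cfsg.Agent.Lib.Bin77

open Matrix Subgroup
open Cfsg.Agent.Lib.SL2Core Cfsg.Agent.Lib.DicksonMat Cfsg.Agent.Lib.DicksonTT
open Cfsg.Agent.Lib.PSL2Std Cfsg.Agent.Lib.PSL2Coat Cfsg.Agent.Lib.PSL2Max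

namespace Small

def a4i : alternatingGroup (Fin 4) := ⟨Equiv.swap 0 1 * Equiv.swap 2 3, by rw [Equiv.Perm.mem_alternatingGroup]; decide⟩
def a4j : alternatingGroup (Fin 4) := ⟨Equiv.swap 0 2 * Equiv.swap 1 3, by rw [Equiv.Perm.mem_alternatingGroup]; decide⟩
def a4w : alternatingGroup (Fin 4) := ⟨Equiv.swap 0 1 * Equiv.swap 1 2, by rw [Equiv.Perm.mem_alternatingGroup]; decide⟩
lemma a4_hab : ∀ x y : alternatingGroup (Fin 4), x * a4i = a4i * x → y * a4i = a4i * y → x * y = y * x := by decide +kernel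
lemma a4_norm : ∀ x : alternatingGroup (Fin 4), (x * a4i * x⁻¹ = a4i ∨ x * a4i * x⁻¹ = a4j ∨ x * a4i * x⁻¹ = a4i * a4j) ∧
      (x * a4j * x⁻¹ = a4i ∨ x * a4j * x⁻¹ = a4j ∨ x * a4j * x⁻¹ = a4i * a4j) := by decide +kernel
lemma a4_facts : a4i * a4i = 1 ∧ a4j * a4j = 1 ∧ a4i ≠ 1 ∧ a4j ≠ 1 ∧ a4i ≠ a4j ∧ a4i * a4j = a4j * a4i ∧ a4w ^ 3 = 1 ∧ a4w ≠ 1 := by decide +kernel
def s4i : Equiv.Perm (Fin 4) := Equiv.swap 0 1 * Equiv.swap 2 3
def s4j : Equiv.Perm (Fin 4) := Equiv.swap 0 2 * Equiv.swap 1 3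
def s4w : Equiv.Perm (Fin 4) := Equiv.swap 0 1 * Equiv.swap 1 2
def s4t : Equiv.Perm (Fin 4) := Equiv.swap 0 1
lemma s4_hab : ∀ x y : Equiv.Perm (Fin 4), x * s4t = s4t * x → y * s4t = s4t * y → x * y = y * x := by decide +kernel
lemma s4_norm : ∀ x : Equiv.Perm (Fin 4), (x * s4i * x⁻¹ = s4i ∨ x * s4i * x⁻¹ = s4j ∨ x * s4i * x⁻¹ = s4i * s4j) ∧
      (x * s4j * x⁻¹ = s4i ∨ x * s4j * x⁻¹ = s4j ∨ x * s4j * x⁻¹ = s4i * s4j) := by decide +kernel
lemma s4_facts : s4i * s4i = 1 ∧ s4j * s4j = 1 ∧ s4i ≠ 1 ∧ s4j ≠ 1 ∧ s4i ≠ s4j ∧ s4i * s4j = s4j * s4i ∧ s4w ^ 3 = 1 ∧ s4w ≠ 1 ∧ s4t * s4t = 1 ∧ s4t ≠ 1 := by decide +kernel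
def a5t : alternatingGroup (Fin 5) := ⟨Equiv.swap 0 1 * Equiv.swap 2 3, by rw [Equiv.Perm.mem_alternatingGroup]; decide⟩
lemma a5_hab : ∀ x y : alternatingGroup (Fin 5), x * a5t = a5t * x → y * a5t = a5t * y → x * y = y * x := by decide +kernel
lemma a5_facts : a5t * a5t = 1 ∧ a5t ≠ 1 := by decide +kernel
lemma hdih3 : ∀ x y : DihedralGroup 3, x ^ 3 = 1 → x ≠ 1 → y ^ 3 = 1 → y ≠ 1 → y = x ∨ y = x⁻¹ := by decide
lemma hdih1 : ∀ x y : DihedralGroup 1, x ^ 3 = 1 → x ≠ 1 → y ^ 3 = 1 → y ≠ 1 → y = x ∨ y = x⁻¹ := by decide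
lemma hdih2 : ∀ x y : DihedralGroup 2, x ^ 3 = 1 → x ≠ 1 → y ^ 3 = 1 → y ≠ 1 → y = x ∨ y = x⁻¹ := by decide
lemma hdih4 : ∀ x y : DihedralGroup 4, x ^ 3 = 1 → x ≠ 1 → y ^ 3 = 1 → y ≠ 1 → y = x ∨ y = x⁻¹ := by decide
lemma dih_comm (k : ℕ) : ∀ x y : DihedralGroup k, x * DihedralGroup.sr 0 = DihedralGroup.sr 0 * x →
    y * DihedralGroup.sr 0 = DihedralGroup.sr 0 * y → x * y = y * x := by
  have key : ∀ i : ZMod k, DihedralGroup.r i * DihedralGroup.sr 0 = DihedralGroup.sr 0 * DihedralGroup.r i → -i = i := by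
    intro i h
    simp only [DihedralGroup.r_mul_sr, DihedralGroup.sr_mul_r, DihedralGroup.sr.injEq] at h
    simpa using h
  have key2 : ∀ j : ZMod k, DihedralGroup.sr j * DihedralGroup.sr 0 = DihedralGroup.sr 0 * DihedralGroup.sr j → -j = j := by
    intro j h
    simp only [DihedralGroup.sr_mul_sr, DihedralGroup.r.injEq] at h
    simpa using h
  intro x y hx hy
  cases x with
  | r i =>
    cases y with
    | r i' =>
      simp only [DihedralGroup.r_mul_r, DihedralGroup.r.injEq]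
      ring
    | sr j =>
      have h1 := key i hx
      simp only [DihedralGroup.r_mul_sr, DihedralGroup.sr_mul_r, DihedralGroup.sr.injEq]
      rw [sub_eq_add_neg, h1]
  | sr j =>
    cases y with
    | r i =>
      have h1 := key i hy
      simp only [DihedralGroup.r_mul_sr, DihedralGroup.sr_mul_r, DihedralGroup.sr.injEq]
      rw [sub_eq_add_neg, h1]
    | sr j' =>
      have h1 := key2 j hx
      have h2 := key2 j' hy
      simp only [DihedralGroup.sr_mul_sr, DihedralGroup.r.injEq]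
      calc j' - j = -j' - (-j) := by rw [h1, h2]
        _ = j - j' := by ring

end Small

open Small

variable {F : Type*} [Field F] [Fintype F]

lemma sq_of_tr_zero {Z : SL2 F} (h : tr Z = 0) : Z * Z = negS 1 := by
  rw [ee_tr] at h
  have hd := ee_det Z
  have h11 : ee Z 1 1 = - ee Z 0 0 := by linear_combination h
  rw [h11] at hd
  apply ee_ext <;> simp only [ee_mul, ee_neg, ee_one, h11, if_true, Fin.isValue, zero_ne_one, one_ne_zero, if_false]
  · linear_combination -hd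
  · ring
  · ring
  · linear_combination -hd

/-- No unipotent elements: the order of `H` is prime to the characteristic. -/
lemma not_dvd_of_noU (p : ℕ) [hp : Fact p.Prime] [CharP F p] {H : Subgroup (PSL2 F)}
    (noU : ∀ A : SL2 F, proj A ∈ H → proj A ≠ 1 → tr A * tr A ≠ 4) : ¬ p ∣ Nat.card H := by
  intro h
  obtain ⟨x, hx⟩ := exists_prime_orderOf_dvd_card' p h
  obtain ⟨X, hX⟩ := proj_surjective (x : PSL2 F)
  have hord : orderOf (x : PSL2 F) = p := by rw [Subgroup.orderOf_coe, hx]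
  have hX1 : proj X ≠ 1 := by
    rw [hX]
    intro h1
    rw [h1, orderOf_one] at hord
    exact hp.out.one_lt.ne hord
  have ht := noU X (by rw [hX]; exact x.2) hX1
  have hc := not_center_of_proj_ne_one hX1
  have hmem : proj X ∈ MM (proj X) := mem_MM_proj.mpr rfl
  have h3 : p ∣ Nat.card (MM (proj X)) := by
    have h4 := Subgroup.orderOf_dvd_natCard _ hmem
    have h5 : orderOf (proj X) = p := by rw [hX]; exact hord
    rwa [h5] at h4
  apply not_dvd_card_TT p hc ht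
  rw [← Cfsg.Agent.Lib.PSL2Cnt.card_MM_mul]
  exact h3.mul_right _

/-- In a Borel subgroup, `p`-prime order subgroups are abelian. -/
lemma abelian_of_borel (p : ℕ) [hp : Fact p.Prime] [CharP F p] {H K : Subgroup (PSL2 F)}
    (hpH : ¬ p ∣ Nat.card H) (P : Sylow p (PSL2 F)) (hK : K ≤ normalizer ((P : Subgroup (PSL2 F)) : Set (PSL2 F)))
    (e : H ≃* K) : ∀ x ∈ H, ∀ y ∈ H, x * y = y * x := by
  intro x hx y hy
  have hKcard : Nat.card K = Nat.card H := (Nat.card_congr e.toEquiv).symm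
  set a : K := e ⟨x, hx⟩ with ha
  set b : K := e ⟨y, hy⟩ with hb
  have h3 := comm_mem_sylow P (hK a.2) (hK b.2)
  have hc1 : (a * b * a⁻¹ * b⁻¹) = 1 := by
    obtain ⟨n, hn⟩ := P.isPGroup' ⟨(a : PSL2 F) * b * (a : PSL2 F)⁻¹ * (b : PSL2 F)⁻¹, h3⟩
    have h5 : (a * b * a⁻¹ * b⁻¹) ^ (p ^ n) = 1 := by
      apply Subtype.ext
      have := congrArg Subtype.val hn
      simpa using this
    have h6 : (a * b * a⁻¹ * b⁻¹) ^ Nat.card K = 1 := pow_card_eq_one'
    have hcop : Nat.Coprime (p ^ n) (Nat.card K) := by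
      apply Nat.Coprime.pow_left
      rw [hKcard]
      exact (Nat.Prime.coprime_iff_not_dvd hp.out).mpr hpH
    have := pow_gcd_eq_one.mpr ⟨h5, h6⟩
    rwa [hcop, pow_one] at this
  have hab : a * b = b * a := by
    have : a * b * a⁻¹ * b⁻¹ * (b * a) = b * a := by rw [hc1, one_mul]
    rw [← this]
    group
  have h5 : e (⟨x, hx⟩ * ⟨y, hy⟩) = e (⟨y, hy⟩ * ⟨x, hx⟩) := by
    rw [map_mul, map_mul]
    exact hab
  exact congrArg Subtype.val (e.injective h5)

/-- Case (d) of Dickson's list contains elements of order `p`. -/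
lemma dvd_of_form_d (p : ℕ) [hp : Fact p.Prime] [CharP F p] (h4 : 4 ≤ Fintype.card F) {H : Subgroup (PSL2 F)}
    {K : Type} [Field K] [Fintype K] {m : ℕ} (hm : Fintype.card K ^ m = Fintype.card F)
    (h : Nonempty (H ≃* PSL2 K) ∨ Nonempty (H ≃* ProjGenLinGroup (Fin 2) K)) : p ∣ Nat.card H := by
  obtain ⟨f, -, hf⟩ := FiniteField.card F p
  have hm0 : m ≠ 0 := by
    rintro rfl
    rw [pow_zero] at hm
    omega
  have hpK : p ∣ Fintype.card K := by
    have : p ∣ Fintype.card K ^ m := by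
      rw [hm, hf]
      exact dvd_pow_self p f.ne_zero
    exact hp.out.dvd_of_dvd_pow this
  rcases h with ⟨⟨e⟩⟩ | ⟨⟨e⟩⟩
  · have hc : Nat.gcd 2 (Fintype.card K - 1) * Nat.card H = Fintype.card K * (Fintype.card K ^ 2 - 1) := by
      rw [Nat.card_congr e.toEquiv]
      exact card_PSL2_form (K := K)
    have h5 : p ∣ Nat.gcd 2 (Fintype.card K - 1) * Nat.card H := by
      rw [hc]
      exact hpK.mul_right _
    rcases (Nat.Prime.dvd_mul hp.out).mp h5 with h6 | h6
    · exfalso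
      have h7 : p ∣ Fintype.card K - 1 := h6.trans (Nat.gcd_dvd_right _ _)
      have h8 : p ∣ 1 := by
        have hK1 : 1 ≤ Fintype.card K := Fintype.card_pos
        have : Fintype.card K - (Fintype.card K - 1) = 1 := by omega
        rw [← this]
        exact Nat.dvd_sub hpK h7
      exact hp.out.one_lt.ne' (Nat.dvd_one.mp h8)
    · exact h6
  · have hc : Nat.card H = Fintype.card K * (Fintype.card K ^ 2 - 1) := by
      rw [Nat.card_congr e.toEquiv]
      exact card_PGL2_form (K := K)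
    rw [hc]
    exact hpK.mul_right _

/-- Transport of the involution data. -/
lemma involution_data {A' : Type*} [Group A'] (h2 : (2 : F) ≠ 0) {H : Subgroup (PSL2 F)} (e : H ≃* A') (t₀ : A')
    (ht : t₀ * t₀ = 1) (ht1 : t₀ ≠ 1) (hab : ∀ x y : A', x * t₀ = t₀ * x → y * t₀ = t₀ * y → x * y = y * x) :
    ∃ Z : SL2 F, Z * Z = negS 1 ∧ proj Z ∈ H ∧
      ∀ x ∈ H, ∀ y ∈ H, x * proj Z = proj Z * x → y * proj Z = proj Z * y → x * y = y * x := by
  obtain ⟨Z, hZ⟩ := proj_surjective ((e.symm t₀ : H) : PSL2 F)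
  have hZ1 : proj Z ≠ 1 := by
    rw [hZ]
    intro h
    apply ht1
    have : e.symm t₀ = 1 := Subtype.ext h
    simpa using this
  have hZZ : proj Z * proj Z = 1 := by
    rw [hZ]
    have : e.symm t₀ * e.symm t₀ = 1 := by rw [← map_mul, ht, map_one]
    exact congrArg Subtype.val this
  refine ⟨Z, sq_eq_negS h2 hZ1 hZZ, by rw [hZ]; exact (e.symm t₀).2, ?_⟩
  intro x hx y hy h1 h3
  have key : ∀ z (hz : z ∈ H), z * proj Z = proj Z * z → e ⟨z, hz⟩ * t₀ = t₀ * e ⟨z, hz⟩ := by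
    intro z hz h
    have h5 : (⟨z, hz⟩ : H) * e.symm t₀ = e.symm t₀ * ⟨z, hz⟩ := by
      apply Subtype.ext
      rw [hZ] at h
      exact h
    have h6 := congrArg e h5
    simpa only [map_mul, MulEquiv.apply_symm_apply] using h6
  have h5 := hab _ _ (key x hx h1) (key y hy h3)
  have h6 : e (⟨x, hx⟩ * ⟨y, hy⟩) = e (⟨y, hy⟩ * ⟨x, hx⟩) := by
    rw [map_mul, map_mul]
    exact h5
  exact congrArg Subtype.val (e.injective h6)

/-- Transport of the uniqueness of the subgroup of order three. -/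
lemma cube_data {A' : Type*} [Group A'] {H : Subgroup (PSL2 F)} (e : H ≃* A')
    (h₀ : ∀ x y : A', x ^ 3 = 1 → x ≠ 1 → y ^ 3 = 1 → y ≠ 1 → y = x ∨ y = x⁻¹) :
    ∀ y ∈ H, ∀ z ∈ H, y ^ 3 = 1 → y ≠ 1 → z ^ 3 = 1 → z ≠ 1 → z = y ∨ z = y⁻¹ := by
  intro y hy z hz h1 h3 h4 h5
  have hc : ∀ w (hw : w ∈ H), w ^ 3 = 1 → (e ⟨w, hw⟩) ^ 3 = 1 := by
    intro w hw h
    rw [← map_pow]
    have : (⟨w, hw⟩ : H) ^ 3 = 1 := Subtype.ext h
    rw [this, map_one]
  have hn : ∀ w (hw : w ∈ H), w ≠ 1 → e ⟨w, hw⟩ ≠ 1 := by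
    intro w hw h h'
    apply h
    have : (⟨w, hw⟩ : H) = 1 := by
      apply e.injective
      rw [h', map_one]
    exact congrArg Subtype.val this
  rcases h₀ _ _ (hc y hy h1) (hn y hy h3) (hc z hz h4) (hn z hz h5) with h | h
  · left
    exact congrArg Subtype.val (e.injective h)
  · right
    have : (⟨z, hz⟩ : H) = ⟨y, hy⟩⁻¹ := by
      apply e.injective
      rw [h, map_inv]
    exact congrArg Subtype.val this

/-- Vacuity of the uniqueness condition when `3` does not divide the order. -/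
lemma cube_vacuous {H : Subgroup (PSL2 F)} (h3 : ¬ 3 ∣ Nat.card H) :
    ∀ y ∈ H, ∀ z ∈ H, y ^ 3 = 1 → y ≠ 1 → z ^ 3 = 1 → z ≠ 1 → z = y ∨ z = y⁻¹ := by
  intro y hy z hz h1 h5 _ _
  exfalso
  apply h3
  have hord : orderOf y = 3 := orderOf_eq_prime h1 h5
  have h4 := Subgroup.orderOf_dvd_natCard _ hy
  rwa [hord] at h4

/-- Abelian subgroups in odd characteristic. -/
lemma abelian_case (h2 : (2 : F) ≠ 0) (hq : 7 ≤ Fintype.card F) {H : Subgroup (PSL2 F)} (hH : H ≠ ⊤) (hB : H ≠ ⊥)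
    (hS : Star H) (noU : ∀ A : SL2 F, proj A ∈ H → proj A ≠ 1 → tr A * tr A ≠ 4)
    (hcomm : ∀ x ∈ H, ∀ y ∈ H, x * y = y * x) : False := by
  obtain ⟨z, hz, hz1⟩ := (Subgroup.bot_or_exists_ne_one H).resolve_left hB
  obtain ⟨Z, rfl⟩ := proj_surjective z
  by_cases hall : ∃ Y : SL2 F, proj Y ∈ H ∧ proj Y ≠ 1 ∧ tr Y ≠ 0
  · obtain ⟨Y, hY, hY1, hY0⟩ := hall
    have hZ' : center (SL2 F) ≤ H.comap proj := by
      intro w hw
      rw [Subgroup.mem_comap, (proj_eq_one_iff w).mpr hw]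
      exact H.one_mem
    refine lemmaM_odd h2 hZ' (hS.comap proj proj_surjective) (z := Y) hY (noU Y hY hY1) hY0 ?_
    intro x hx
    have h3 : proj (Y * x) = proj (x * Y) := by
      rw [map_mul, map_mul]
      exact hcomm _ hY _ hx
    rcases (proj_eq_proj_iff' _ _).mp h3 with h | h
    · exact h
    · exfalso
      have h5 : x * Y * x⁻¹ = negS Y := by
        have h6 : x * Y = negS (Y * x) := h
        rw [h6, neg_mul', mul_inv_cancel_right]
      have h6 := tr_conj x Y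
      rw [h5, tr_negS] at h6
      apply hY0
      have : 2 * tr Y = 0 := by linear_combination -h6
      exact (mul_eq_zero.mp this).resolve_left h2
  · push Not at hall
    refine v4_case h2 hq hH hS (sq_of_tr_zero (hall Z hz hz1)) hz ?_ ?_
    · intro x hx y hy _ _
      exact hcomm x hx y hy
    · intro _ y hy z _ h3 h1
      exfalso
      obtain ⟨Y, rfl⟩ := proj_surjective y
      have h5 := hall Y hy h1
      rcases tr_of_pow_three h1 h3 with h | h <;> rw [h] at h5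
      · exact one_ne_zero h5
      · exact neg_ne_zero.mpr one_ne_zero h5

/-- **No binary action for subgroups without unipotents, odd characteristic.** -/
theorem odd_case (h2 : (2 : F) ≠ 0) (hq : 7 ≤ Fintype.card F) {H : Subgroup (PSL2 F)} (hH : H ≠ ⊤) (hB : H ≠ ⊥)
    (hS : Star H) (noU : ∀ A : SL2 F, proj A ∈ H → proj A ≠ 1 → tr A * tr A ≠ 4) : False := by
  obtain ⟨p, hch⟩ := CharP.exists F
  haveI hpf : Fact p.Prime := ⟨CharP.char_is_prime F p⟩
  have hpH := not_dvd_of_noU p noU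
  have h3 : Fintype.card F = 9 → ¬ 3 ∣ Nat.card H := by
    intro h9
    have hc3 : CharP F 3 := charP_of_card F Nat.prime_three (n := 2) (by norm_num) (by rw [h9]; norm_num)
    have : p = 3 := CharP.eq F hch hc3
    rwa [this] at hpH
  have hG7 : Fintype.card F = 7 → Nat.card (PSL2 F) = 168 := by
    intro h7
    have hG := card_PSL2_form (K := F)
    rw [h7] at hG
    norm_num at hG
    omega
  have hdvdG : Nat.card H ∣ Nat.card (PSL2 F) := Subgroup.card_subgroup_dvd_card H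
  rcases Cfsg.Agent.S0799.result (rfl : Fintype.card F = _) p H with
    ⟨k, hk, (⟨hcy, -⟩ | ⟨⟨e⟩⟩)⟩ | ⟨P, K, hK, ⟨e⟩⟩ | ⟨⟨e⟩⟩ | ⟨⟨e⟩⟩ | ⟨⟨e⟩⟩ | ⟨K, _, _, m, hm, hform⟩
  · -- cyclic
    refine abelian_case h2 hq hH hB hS noU ?_
    intro x hx y hy
    have h5 : (⟨x, hx⟩ : H) * ⟨y, hy⟩ = ⟨y, hy⟩ * ⟨x, hx⟩ := by
      haveI := hcy
      exact (IsCyclic.commGroup (α := H)).mul_comm _ _
    exact congrArg Subtype.val h5
  · -- dihedral
    obtain ⟨Z, hZ1, hZ2, hZ3⟩ := involution_data h2 e (DihedralGroup.sr 0) (by simp)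
      (by rw [DihedralGroup.one_def]; intro h; cases h) (dih_comm k)
    refine v4_case h2 hq hH hS hZ1 hZ2 hZ3 ?_
    rintro (h7 | h9)
    · apply cube_data e
      rw [h7] at hk
      norm_num at hk
      have hk0 : k ≠ 0 := by
        rintro rfl
        rcases hk with h | h <;> simp at h
      have hk4 : k ≤ 4 := by
        rcases hk with h | h
        · exact Nat.le_of_dvd (by norm_num) h
        · exact (Nat.le_of_dvd (by norm_num) h).trans (by norm_num)
      clear e hZ3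
      interval_cases k
      · exact absurd rfl hk0
      · exact hdih1
      · exact hdih2
      · exact hdih3
      · exact hdih4
    · exact cube_vacuous (h3 h9)
  · -- Borel
    exact abelian_case h2 hq hH hB hS noU (abelian_of_borel p hpH P hK e)
  · -- `A₄`
    obtain ⟨hf1, hf2, hf3, hf4, hf5, hf6, hf7, hf8⟩ := a4_facts
    by_cases h7 : Fintype.card F = 7
    · exact q7_case h7 hS e a4i a4j a4w hf1 hf2 hf3 hf4 hf5 hf6 a4_norm hf7 hf8
    obtain ⟨Z, hZ1, hZ2, hZ3⟩ := involution_data h2 e a4i hf1 hf3 a4_hab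
    refine v4_case h2 hq hH hS hZ1 hZ2 hZ3 ?_
    rintro (h | h9)
    · exact absurd h h7
    · exact cube_vacuous (h3 h9)
  · -- `S₄`
    obtain ⟨hf1, hf2, hf3, hf4, hf5, hf6, hf7, hf8, hf9, hf10⟩ := s4_facts
    by_cases h7 : Fintype.card F = 7
    · exact q7_case h7 hS e s4i s4j s4w hf1 hf2 hf3 hf4 hf5 hf6 s4_norm hf7 hf8
    obtain ⟨Z, hZ1, hZ2, hZ3⟩ := involution_data h2 e s4t hf9 hf10 s4_hab
    refine v4_case h2 hq hH hS hZ1 hZ2 hZ3 ?_
    rintro (h | h9)
    · exact absurd h h7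
    · exact cube_vacuous (h3 h9)
  · -- `A₅`
    obtain ⟨hf1, hf2⟩ := a5_facts
    obtain ⟨Z, hZ1, hZ2, hZ3⟩ := involution_data h2 e a5t hf1 hf2 a5_hab
    refine v4_case h2 hq hH hS hZ1 hZ2 hZ3 ?_
    rintro (h7 | h9)
    · exfalso
      rw [hG7 h7, Nat.card_congr e.toEquiv, card_alt5] at hdvdG
      norm_num at hdvdG
    · exact cube_vacuous (h3 h9)
  · exact hpH (dvd_of_form_d p (by omega) hm hform)

lemma negS_of_two (h2 : (2 : F) = 0) (A : SL2 F) : negS A = A := by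
  apply ee_ext <;> simp only [ee_neg] <;> linear_combination (-ee A _ _) * h2

lemma cube_of_tr_one (h2 : (2 : F) = 0) {Y : SL2 F} (h : tr Y = 1) : Y * Y * Y = 1 := by
  rw [ee_tr] at h
  have hd := ee_det Y
  have h11 : ee Y 1 1 = 1 - ee Y 0 0 := by linear_combination h
  rw [h11] at hd
  apply ee_ext <;> simp only [ee_mul, ee_one, h11, if_true, Fin.isValue, zero_ne_one, one_ne_zero, if_false]
  · linear_combination -(ee Y 0 0 + 1) * hd - h2
  · linear_combination -(ee Y 0 1) * hd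
  · linear_combination -(ee Y 1 0) * hd
  · linear_combination -(2 - ee Y 0 0) * hd - h2

/-- **No unipotents, characteristic two.** -/
theorem even_case (h2 : (2 : F) = 0) (h4 : 4 ≤ Fintype.card F) {H : Subgroup (PSL2 F)} (hB : H ≠ ⊥)
    (hS : Star H) (noU : ∀ A : SL2 F, proj A ∈ H → proj A ≠ 1 → tr A * tr A ≠ 4) :
    (∀ ω : F, ω * ω + ω + 1 ≠ 0) ∧ Nat.card H = 3 := by
  haveI hch : CharP F 2 := CharTwo.of_one_ne_zero_of_two_eq_zero (R := F) one_ne_zero h2
  have hpH := not_dvd_of_noU 2 noU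
  have hcomm : ∀ x ∈ H, ∀ y ∈ H, x * y = y * x := by
    rcases Cfsg.Agent.S0799.result (rfl : Fintype.card F = _) 2 H with
      ⟨k, hk, (⟨hcy, -⟩ | ⟨⟨e⟩⟩)⟩ | ⟨P, K, hK, ⟨e⟩⟩ | ⟨⟨e⟩⟩ | ⟨⟨e⟩⟩ | ⟨⟨e⟩⟩ | ⟨K, _, _, m, hm, hform⟩
    · intro x hx y hy
      have h5 : (⟨x, hx⟩ : H) * ⟨y, hy⟩ = ⟨y, hy⟩ * ⟨x, hx⟩ := by
        haveI := hcy
        exact (IsCyclic.commGroup (α := H)).mul_comm _ _
      exact congrArg Subtype.val h5
    · exfalso
      apply hpH
      rw [Nat.card_congr e.toEquiv, DihedralGroup.nat_card]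
      exact dvd_mul_right _ _
    · exact abelian_of_borel 2 hpH P hK e
    · exfalso
      apply hpH
      rw [Nat.card_congr e.toEquiv, card_alt4]
      norm_num
    · exfalso
      apply hpH
      rw [Nat.card_congr e.toEquiv, card_perm4]
      norm_num
    · exfalso
      apply hpH
      rw [Nat.card_congr e.toEquiv, card_alt5]
      norm_num
    · exact absurd (dvd_of_form_d 2 h4 hm hform) hpH
  have hZ' : center (SL2 F) ≤ H.comap proj := by
    intro w hw
    rw [Subgroup.mem_comap, (proj_eq_one_iff w).mpr hw]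
    exact H.one_mem
  have hS' := hS.comap proj proj_surjective
  have hT : ∀ Y : SL2 F, proj Y ∈ H → ∀ x ∈ H.comap proj, x * Y = Y * x := by
    intro Y hY x hx
    have h3 : proj (Y * x) = proj (x * Y) := by
      rw [map_mul, map_mul]
      exact hcomm _ hY _ hx
    rcases (proj_eq_proj_iff' _ _).mp h3 with h | h
    · exact h
    · rwa [negS_of_two h2] at h
  have e4 : (4 : F) = 0 := by
    have : (4 : F) = 2 * 2 := by norm_num
    rw [this, h2, mul_zero]
  have htr : ∀ Y : SL2 F, proj Y ∈ H → proj Y ≠ 1 → tr Y = 1 := by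
    intro Y hY hY1
    have h0 : tr Y ≠ 0 := by
      intro h
      apply noU Y hY hY1
      rw [h, mul_zero, e4]
    exact lemmaM_even h2 hZ' hS' hY h0 (hT Y hY)
  obtain ⟨z, hz, hz1⟩ := (Subgroup.bot_or_exists_ne_one H).resolve_left hB
  obtain ⟨Z, rfl⟩ := proj_surjective z
  refine ⟨?_, ?_⟩
  · intro ω hω
    exact no_trace_one h2 hω hZ' hS' hz (htr Z hz hz1) (hT Z hz)
  · have ht4 := noU Z hz hz1
    have hc := not_center_of_tr ht4
    haveI hMc := (isSS_of 2 hc ht4).cyclic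
    have hle : H ≤ MM (proj Z) := by
      intro x hx
      obtain ⟨X, rfl⟩ := proj_surjective x
      exact mem_MM_proj.mpr (hT Z hz X hx)
    haveI hHc : IsCyclic H := Subgroup.isCyclic_of_le hle
    obtain ⟨y, hy⟩ := IsCyclic.exists_ofOrder_eq_natCard (α := H)
    have hy3 : y ^ 3 = 1 := by
      apply Subtype.ext
      by_cases h1 : (y : PSL2 F) = 1
      · simp [h1]
      · obtain ⟨Y, hY⟩ := proj_surjective (y : PSL2 F)
        have h5 := cube_of_tr_one h2 (htr Y (by rw [hY]; exact y.2) (by rw [hY]; exact h1))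
        have h6 := congrArg proj h5
        rw [map_mul, map_mul, map_one, hY] at h6
        simp only [Subgroup.coe_pow, Subgroup.coe_one]
        rw [← h6]
        simp only [pow_succ, pow_zero, one_mul]
    have h7 : Nat.card H ∣ 3 := by
      rw [← hy]
      exact orderOf_dvd_of_pow_eq_one hy3
    rcases (Nat.dvd_prime Nat.prime_three).mp h7 with h8 | h8
    · exfalso
      apply hB
      exact (Subgroup.card_eq_one).mp h8
    · exact h8

end Cfsg.Agent.Lib.Bin77
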