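import Mathlib
import Cfsg.Agent.Lib.Bin77.Dick

/-!
# Binary actions of `PSL₂`: the converse directions
-/

set_option autoImplicit false
set_option linter.style.haveILetI false
set_option linter.unusedVariables false
set_option linter.unusedSectionVars false

namespace Cfsg.Agent.Lib.Bin77

open Matrix Subgroup
open Cfsg.Agent.Lib.SL2Core Cfsg.Agent.Lib.DicksonMat Cfsg.Agent.Lib.DicksonTT
open Cfsg.Agent.Lib.PSL2Std Cfsg.Agent.Lib.PSL2Coat Cfsg.Agent.Lib.PSL2Max

/-- Free actions are binary. -/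
lemma bin_bot {G : Type*} [Group G] : Bin (⊥ : Subgroup G) := by
  intro n I J hn hp
  have h0 : 0 < n := by omega
  have h1 : 1 < n := by omega
  let i₀ : Fin n := ⟨0, h0⟩
  let i₁ : Fin n := ⟨1, h1⟩
  have hne : i₀ ≠ i₁ := by
    intro h
    have := congrArg Fin.val h
    simp [i₀, i₁] at this
  obtain ⟨g, hg0, hg1⟩ := hp i₀ i₁ hne
  refine ⟨g, fun i => ?_⟩
  by_cases hi : i = i₀
  · rw [hi]
    exact hg0
  · obtain ⟨g', hg'0, hg'1⟩ := hp i₀ i (Ne.symm hi)
    have hgg : g = g' := by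
      have h5 : g • I i₀ = g' • I i₀ := hg0.trans hg'0.symm
      induction hx : I i₀ using QuotientGroup.induction_on with
      | H x =>
        rw [hx] at h5
        have h6 : ((g * x : G) : G ⧸ (⊥ : Subgroup G)) = ((g' * x : G) : G ⧸ (⊥ : Subgroup G)) := h5
        rw [QuotientGroup.eq, Subgroup.mem_bot] at h6
        have h7 : g * x = g' * x := by
          have := inv_mul_eq_one.mp h6
          exact this
        exact mul_right_cancel h7
    rw [hgg]
    exact hg'1

variable {F : Type*} [Field F]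

/-- The unipotent subgroup. -/
def UU (F : Type*) [Field F] : Subgroup (SL2 F) where
  carrier := {M | ee M 1 0 = 0 ∧ ee M 0 0 = 1}
  one_mem' := by simp [ee_one]
  mul_mem' := by
    rintro A B ⟨h1, h3⟩ ⟨h4, h5⟩
    constructor
    · simp only [ee_mul, h1, h4, h5]
      ring
    · simp only [ee_mul, h3, h4, h5]
      ring
  inv_mem' := by
    rintro A ⟨h1, h3⟩
    have hd := ee_det A
    rw [h1, h3] at hd
    constructor
    · rw [ee_inv10, h1, neg_zero]
    · rw [ee_inv00]
      linear_combination hd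

lemma mem_UU {M : SL2 F} : M ∈ UU F ↔ ee M 1 0 = 0 ∧ ee M 0 0 = 1 := Iff.rfl

lemma mem_UU_iff {M : SL2 F} : M ∈ UU F ↔ ∃ v, M = uu v := by
  constructor
  · rintro ⟨h1, h3⟩
    have hd := ee_det M
    rw [h1, h3] at hd
    refine ⟨ee M 0 1, ?_⟩
    apply ee_ext <;> simp only [uu00, uu01, uu10, uu11, h1, h3]
    linear_combination hd
  · rintro ⟨v, rfl⟩
    exact ⟨rfl, rfl⟩

/-- The coset of `UU` is determined by the first column. -/
lemma smul_mk_UU {g X Y : SL2 F} :
    g • (X : SL2 F ⧸ UU F) = (Y : SL2 F ⧸ UU F) ↔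
      ee g 0 0 * ee X 0 0 + ee g 0 1 * ee X 1 0 = ee Y 0 0 ∧
      ee g 1 0 * ee X 0 0 + ee g 1 1 * ee X 1 0 = ee Y 1 0 := by
  have e : g • (X : SL2 F ⧸ UU F) = ((g * X : SL2 F) : SL2 F ⧸ UU F) := rfl
  rw [e, eq_comm, QuotientGroup.eq, mem_UU]
  have hd := ee_det Y
  constructor
  · rintro ⟨h1, h3⟩
    have h4 : g * X = Y * (Y⁻¹ * (g * X)) := by group
    have h5 := congrArg (fun M => ee M 0 0) h4
    have h6 := congrArg (fun M => ee M 1 0) h4
    simp only [ee_mul Y] at h5 h6
    rw [h1, h3] at h5 h6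
    rw [ee_mul] at h5 h6
    constructor
    · linear_combination h5
    · linear_combination h6
  · rintro ⟨h1, h3⟩
    constructor
    · rw [ee_mul Y⁻¹, ee_mul g, ee_mul g, h1, h3, ee_inv10, ee_inv11]
      ring
    · rw [ee_mul Y⁻¹, ee_mul g, ee_mul g, h1, h3, ee_inv00, ee_inv01]
      linear_combination hd

/-- **The action on the first columns is binary.** -/
lemma bin_UU : Bin (UU F) := by
  intro n I J hn hp
  have h0 : 0 < n := by omega
  have h1 : 1 < n := by omega
  let X : Fin n → SL2 F := fun i => (I i).out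
  let Y : Fin n → SL2 F := fun i => (J i).out
  have hX : ∀ i, ((X i : SL2 F) : SL2 F ⧸ UU F) = I i := fun i => QuotientGroup.out_eq' _
  have hY : ∀ i, ((Y i : SL2 F) : SL2 F ⧸ UU F) = J i := fun i => QuotientGroup.out_eq' _
  -- coordinates
  let a : Fin n → F := fun i => ee (X i) 0 0
  let b : Fin n → F := fun i => ee (X i) 1 0
  let c : Fin n → F := fun i => ee (Y i) 0 0
  let d : Fin n → F := fun i => ee (Y i) 1 0
  have hact : ∀ (g : SL2 F) i, g • I i = J i ↔
      ee g 0 0 * a i + ee g 0 1 * b i = c i ∧ ee g 1 0 * a i + ee g 1 1 * b i = d i := by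
    intro g i
    rw [← hX, ← hY]
    exact smul_mk_UU
  have hdet : ∀ i j, a i * b j - b i * a j = c i * d j - d i * c j := by
    intro i j
    by_cases hij : i = j
    · rw [hij]
      ring
    · obtain ⟨g, hg1, hg2⟩ := hp i j hij
      obtain ⟨h3, h4⟩ := (hact g i).mp hg1
      obtain ⟨h5, h6⟩ := (hact g j).mp hg2
      have hd := ee_det g
      rw [← h3, ← h4, ← h5, ← h6]
      linear_combination (-(a i * b j - b i * a j)) * hd
  by_cases hex : ∃ u w, a u * b w - b u * a w ≠ 0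
  · obtain ⟨u, w, hD⟩ := hex
    have huw : u ≠ w := by
      rintro rfl
      apply hD
      ring
    obtain ⟨g, hg1, hg2⟩ := hp u w huw
    obtain ⟨h3, h4⟩ := (hact g u).mp hg1
    obtain ⟨h5, h6⟩ := (hact g w).mp hg2
    refine ⟨g, fun i => (hact g i).mpr ⟨?_, ?_⟩⟩
    · apply mul_left_cancel₀ hD
      have hi := hdet i w
      have hu := hdet u i
      have hD' := hdet u w
      linear_combination (a i * b w - b i * a w) * h3 + (a u * b i - b u * a i) * h5
        - (c i) * hD' + (c w) * hu + (c u) * hi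
    · apply mul_left_cancel₀ hD
      have hi := hdet i w
      have hu := hdet u i
      have hD' := hdet u w
      linear_combination (a i * b w - b i * a w) * h4 + (a u * b i - b u * a i) * h6
        - (d i) * hD' + (d w) * hu + (d u) * hi
  · push Not at hex
    let i₀ : Fin n := ⟨0, h0⟩
    let i₁ : Fin n := ⟨1, h1⟩
    have hne : i₀ ≠ i₁ := by
      intro h
      have := congrArg Fin.val h
      simp [i₀, i₁] at this
    obtain ⟨g, hg0, hg1⟩ := hp i₀ i₁ hne
    obtain ⟨h3, h4⟩ := (hact g i₀).mp hg0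
    -- the second column
    have hd₀ := ee_det (X i₀)
    refine ⟨g, fun i => ?_⟩
    by_cases hi : i = i₀
    · rw [hi]
      exact hg0
    obtain ⟨g', hg'0, hg'i⟩ := hp i₀ i (Ne.symm hi)
    obtain ⟨h5, h6⟩ := (hact g' i₀).mp hg'0
    obtain ⟨h7, h8⟩ := (hact g' i).mp hg'i
    -- `v_i = κ v₀`
    let κ : F := a i * ee (X i₀) 1 1 - b i * ee (X i₀) 0 1
    have hκa : a i = κ * a i₀ := by
      have h9 := hex i₀ i
      simp only [κ]
      have hd' : a i₀ * ee (X i₀) 1 1 - ee (X i₀) 0 1 * b i₀ = 1 := hd₀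
      linear_combination (-(a i)) * hd' + (ee (X i₀) 0 1) * h9
    have hκb : b i = κ * b i₀ := by
      have h9 := hex i₀ i
      simp only [κ]
      have hd' : a i₀ * ee (X i₀) 1 1 - ee (X i₀) 0 1 * b i₀ = 1 := hd₀
      linear_combination (-(b i)) * hd' + (ee (X i₀) 1 1) * h9
    refine (hact g i).mpr ⟨?_, ?_⟩
    · rw [hκa, hκb] at h7 ⊢
      linear_combination κ * h3 - κ * h5 + h7
    · rw [hκa, hκb] at h8 ⊢
      linear_combination κ * h4 - κ * h6 + h8

/-- The key lemma in characteristic two, without cube roots of unity. -/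
lemma eq_of_traces (h2 : (2 : F) = 0) (hω : ∀ ω : F, ω * ω + ω + 1 ≠ 0) {A B : SL2 F} (hA : tr A = 1)
    (hB : tr B = 1) (hAB : tr (A * B) = 1) : B = A := by
  rw [ee_tr] at hA hB hAB
  simp only [ee_mul] at hAB
  have hdA := ee_det A
  have hdB := ee_det B
  obtain ⟨a, ha⟩ : ∃ a, a = ee A 0 0 := ⟨_, rfl⟩
  obtain ⟨b, hb⟩ : ∃ b, b = ee A 0 1 := ⟨_, rfl⟩
  obtain ⟨c, hc⟩ : ∃ c, c = ee A 1 0 := ⟨_, rfl⟩
  obtain ⟨x, hx⟩ : ∃ x, x = ee B 0 0 := ⟨_, rfl⟩
  obtain ⟨y, hy⟩ : ∃ y, y = ee B 0 1 := ⟨_, rfl⟩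
  obtain ⟨z, hz⟩ : ∃ z, z = ee B 1 0 := ⟨_, rfl⟩
  have hd : ee A 1 1 = 1 - a := by rw [ha]; linear_combination hA
  have hw : ee B 1 1 = 1 - x := by rw [hx]; linear_combination hB
  rw [hd, ← ha, ← hb, ← hc] at hdA
  rw [hw, ← hx, ← hy, ← hz] at hdB
  rw [hd, hw, ← ha, ← hb, ← hc, ← hx, ← hy, ← hz] at hAB
  obtain ⟨u, hu⟩ : ∃ u, u = x + a := ⟨_, rfl⟩
  obtain ⟨v, hv⟩ : ∃ v, v = y + b := ⟨_, rfl⟩
  obtain ⟨t, ht⟩ : ∃ t, t = z + c := ⟨_, rfl⟩
  have R2 : u + b * t + c * v = 0 := by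
    rw [hu, hv, ht]
    linear_combination hAB + (x + a - a * x + b * c) * h2
  have R1 : u * u + v * t = 0 := by
    rw [hu, hv, ht]
    linear_combination hAB - hdA - hdB + (x + a - 1) * h2
  have hfin : u = 0 → v = 0 → t = 0 → B = A := by
    intro h1 h3 h4
    have h5 : x = a := by
      rw [hu] at h1
      linear_combination h1 - a * h2
    have h6 : y = b := by
      rw [hv] at h3
      linear_combination h3 - b * h2
    have h7 : z = c := by
      rw [ht] at h4
      linear_combination h4 - c * h2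
    apply ee_ext
    · rw [← hx, ← ha, h5]
    · rw [← hy, ← hb, h6]
    · rw [← hz, ← hc, h7]
    · rw [hw, hd, h5]
  by_cases hv0 : v = 0
  · rw [hv0, zero_mul, add_zero] at R1
    have hu0 : u = 0 := mul_self_eq_zero.mp R1
    rw [hv0, hu0, mul_zero, add_zero, zero_add] at R2
    have hb0 : b ≠ 0 := by
      intro h
      apply hω a
      rw [h] at hdA
      linear_combination -hdA + a * h2
    have ht0 : t = 0 := (mul_eq_zero.mp R2).resolve_left hb0
    exact hfin hu0 hv0 ht0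
  · exfalso
    obtain ⟨r, hr⟩ : ∃ r, t = r * v := ⟨t / v, by field_simp⟩
    rw [hr] at R1 R2
    have hE : v * v * ((b * r + c) * (b * r + c) + r) = 0 := by
      linear_combination R1 - (u - b * (r * v) - c * v) * R2
    have hE2 : (b * r + c) * (b * r + c) + r = 0 :=
      (mul_eq_zero.mp hE).resolve_left (mul_ne_zero hv0 hv0)
    apply hω (b * b * r + b * c + a)
    linear_combination b * b * hE2 - hdA + (a + b * b * r * a + b * c * a) * h2

section three

variable [Fintype F]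

lemma stab_mk (H : Subgroup (SL2 F)) (X : SL2 F) :
    MulAction.stabilizer (SL2 F) ((X : SL2 F) : SL2 F ⧸ H) = conjSub X H := by
  ext z
  rw [MulAction.mem_stabilizer_iff, smul_mk_eq_iff, mem_conjSub]

lemma card_conjSub {G : Type*} [Group G] (c : G) (H : Subgroup G) : Nat.card (conjSub c H) = Nat.card H :=
  Subgroup.card_map_of_injective (MulAut.conj c).injective

/-- **Subgroups of order three when there are no cube roots of unity.** -/
theorem bin_three (h2 : (2 : F) = 0) (hω : ∀ ω : F, ω * ω + ω + 1 ≠ 0) {H : Subgroup (SL2 F)} (hc : Nat.card H = 3) :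
    Bin H := by
  classical
  intro n I J hn hp
  have h0 : 0 < n := by omega
  have h1 : 1 < n := by omega
  let i₀ : Fin n := ⟨0, h0⟩
  let i₁ : Fin n := ⟨1, h1⟩
  have hne : i₀ ≠ i₁ := by
    intro h
    have := congrArg Fin.val h
    simp [i₀, i₁] at this
  let S : SL2 F ⧸ H → Subgroup (SL2 F) := fun ω => MulAction.stabilizer (SL2 F) ω
  have hmemS : ∀ ω z, z ∈ S ω ↔ z • ω = ω := fun ω z => MulAction.mem_stabilizer_iff
  have hS3 : ∀ ω, Nat.card (S ω) = 3 := by
    intro ω
    induction ω using QuotientGroup.induction_on with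
    | H X =>
      have : S ((X : SL2 F) : SL2 F ⧸ H) = conjSub X H := stab_mk H X
      rw [this, card_conjSub, hc]
  have hcube : ∀ ω, ∀ z ∈ S ω, z ^ 3 = 1 := by
    intro ω z hz
    have h3 : (⟨z, hz⟩ : S ω) ^ Nat.card (S ω) = 1 := pow_card_eq_one'
    rw [hS3] at h3
    exact congrArg Subtype.val h3
  have hneg1 : negS (1 : SL2 F) = 1 := negS_of_two h2 1
  have htr : ∀ ω, ∀ z ∈ S ω, z ≠ 1 → tr z = 1 := by
    intro ω z hz hz1
    have h3 : proj z ≠ 1 := by
      intro h
      rcases center_eq z ((proj_eq_one_iff z).mp h) with h5 | h5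
      · exact hz1 h5
      · exact hz1 (h5.trans hneg1)
    have h5 : proj z ^ 3 = 1 := by
      rw [← map_pow, hcube ω z hz, map_one]
    rcases tr_of_pow_three h3 h5 with h6 | h6
    · exact h6
    · rw [h6]
      linear_combination -h2
  have hshare : ∀ ω ω' c, c ∈ S ω → c ∈ S ω' → c ≠ 1 → S ω = S ω' := by
    intro ω ω' c h3 h5 h6
    have hord : orderOf c = 3 := orderOf_eq_prime (hcube ω c h3) h6
    have hz : ∀ ω'', c ∈ S ω'' → Subgroup.zpowers c = S ω'' := by
      intro ω'' h7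
      apply Subgroup.eq_of_le_of_card_ge
      · rw [Subgroup.zpowers_le]
        exact h7
      · rw [hS3, Nat.card_zpowers, hord]
    rw [← hz ω h3, hz ω' h5]
  obtain ⟨a, ha0, ha1⟩ := hp i₀ i₁ hne
  let I' : Fin n → SL2 F ⧸ H := fun i => a • I i
  have hI'0 : I' i₀ = J i₀ := ha0
  have hh : ∀ i, ∃ h ∈ S (J i₀), h • I' i = J i := by
    intro i
    by_cases hi : i = i₀
    · refine ⟨1, (S _).one_mem, ?_⟩
      rw [hi, one_smul]
      exact hI'0
    · obtain ⟨g, hg0, hgi⟩ := hp i₀ i (Ne.symm hi)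
      refine ⟨g * a⁻¹, ?_, ?_⟩
      · rw [hmemS, mul_smul]
        have : a⁻¹ • J i₀ = I i₀ := by
          rw [← ha0, inv_smul_smul]
        rw [this, hg0]
      · simp only [I']
        rw [mul_smul, inv_smul_smul, hgi]
  choose h hhm hha using hh
  have hclaim : ∀ i j, S (I' i) ≠ S (J i₀) → S (I' j) ≠ S (J i₀) → h i = h j := by
    intro i j hi hj
    by_cases hij : i = j
    · rw [hij]
    by_contra hne'
    obtain ⟨g, hgi, hgj⟩ := hp i j hij
    have hGi : (g * a⁻¹) • I' i = J i := by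
      simp only [I']
      rw [mul_smul, inv_smul_smul, hgi]
    have hGj : (g * a⁻¹) • I' j = J j := by
      simp only [I']
      rw [mul_smul, inv_smul_smul, hgj]
    obtain ⟨si, hsi⟩ : ∃ si, si = (h i)⁻¹ * (g * a⁻¹) := ⟨_, rfl⟩
    obtain ⟨sj, hsj⟩ : ∃ sj, sj = (h j)⁻¹ * (g * a⁻¹) := ⟨_, rfl⟩
    have hsiS : si ∈ S (I' i) := by
      rw [hmemS, hsi, mul_smul, hGi, ← hha i, inv_smul_smul]
    have hsjS : sj ∈ S (I' j) := by
      rw [hmemS, hsj, mul_smul, hGj, ← hha j, inv_smul_smul]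
    obtain ⟨c', hc'⟩ : ∃ c', c' = (h j)⁻¹ * h i := ⟨_, rfl⟩
    have hcH : c' ∈ S (J i₀) := by
      rw [hc']
      exact (S _).mul_mem ((S _).inv_mem (hhm j)) (hhm i)
    have hc1 : c' ≠ 1 := by
      rw [hc']
      intro h5
      apply hne'
      have : h i = h j * ((h j)⁻¹ * h i) := by group
      rw [this, h5, mul_one]
    have hcs : c' = sj * si⁻¹ := by
      rw [hc', hsi, hsj]
      group
    by_cases hsi1 : si = 1
    · rw [hsi1, inv_one, mul_one] at hcs
      rw [hcs] at hcH hc1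
      exact hj (hshare _ _ _ hsjS hcH hc1)
    by_cases hsj1 : sj = 1
    · rw [hsj1, one_mul] at hcs
      have h5 : c' ∈ S (I' i) := by
        rw [hcs]
        exact (S _).inv_mem hsiS
      exact hi (hshare _ _ _ h5 hcH hc1)
    have hsi1' : si⁻¹ ≠ 1 := inv_ne_one.mpr hsi1
    have hkey := eq_of_traces h2 hω (A := sj) (B := si⁻¹) (htr _ _ hsjS hsj1) (htr _ _ ((S _).inv_mem hsiS) hsi1')
      (by rw [← hcs]; exact htr _ _ hcH hc1)
    rw [hkey] at hcs
    have h5 : sj = c' * c' := by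
      have h6 := hcube _ _ hsjS
      rw [hcs]
      calc sj = sj ^ 3 * sj := by rw [h6, one_mul]
        _ = sj * sj * (sj * sj) := by simp only [pow_succ, pow_zero, one_mul, mul_assoc]
    have h6 : sj ∈ S (J i₀) := by
      rw [h5]
      exact (S _).mul_mem hcH hcH
    exact hj (hshare _ _ _ hsjS h6 hsj1)
  by_cases hP : ∃ i₂, S (I' i₂) ≠ S (J i₀)
  · obtain ⟨i₂, hi₂⟩ := hP
    refine ⟨h i₂ * a, fun i => ?_⟩
    rw [mul_smul]
    by_cases hi : S (I' i) = S (J i₀)
    · have h3 : h i • I' i = I' i := by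
        rw [← hmemS, hi]
        exact hhm i
      have h5 : h i₂ • I' i = I' i := by
        rw [← hmemS, hi]
        exact hhm i₂
      rw [← hha i, h3]
      exact h5
    · rw [hclaim i₂ i hi₂ hi]
      exact hha i
  · push Not at hP
    refine ⟨a, fun i => ?_⟩
    have h3 : h i • I' i = I' i := by
      rw [← hmemS, hP i]
      exact hhm i
    rw [← hha i, h3]

end three

end Cfsg.Agent.Lib.Bin77
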