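import Mathlib
import Cfsg.Agent.Lib.Bin77.Conv

/-!
# Binary actions of `PSL₂`: the classification
-/

set_option autoImplicit false
set_option linter.style.haveILetI false
set_option linter.unusedVariables false
set_option linter.unusedSectionVars false

namespace Cfsg.Agent.Lib.Bin77

open Matrix Subgroup
open Cfsg.Agent.Lib.SL2Core Cfsg.Agent.Lib.DicksonMat Cfsg.Agent.Lib.DicksonTT
open Cfsg.Agent.Lib.PSL2Std Cfsg.Agent.Lib.PSL2Coat Cfsg.Agent.Lib.PSL2Max

variable {F : Type*} [Field F] [Fintype F]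

lemma two_eq_zero_of_card {a : ℕ} (h4 : 4 ≤ Fintype.card F) (ha : Fintype.card F = 2 ^ a) : (2 : F) = 0 := by
  have ha0 : a ≠ 0 := by
    rintro rfl
    rw [pow_zero] at ha
    omega
  haveI := charP_of_card F Nat.prime_two ha0 ha
  exact_mod_cast CharP.cast_eq_zero F 2

lemma proj_inj (h2 : (2 : F) = 0) : Function.Injective (proj : SL2 F → PSL2 F) := by
  intro A B h
  rcases (proj_eq_proj_iff' _ _).mp h with h3 | h3
  · exact h3.symm
  · rw [negS_of_two h2] at h3
    exact h3.symm

/-- In characteristic two the projection is an isomorphism. -/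
noncomputable def psiEquiv (h2 : (2 : F) = 0) : SL2 F ≃* PSL2 F :=
  MulEquiv.ofBijective proj ⟨proj_inj h2, proj_surjective⟩

lemma psi_apply (h2 : (2 : F) = 0) (A : SL2 F) : psiEquiv h2 A = proj A := rfl

lemma psi_map (h2 : (2 : F) = 0) (H : Subgroup (PSL2 F)) :
    (H.comap proj).map (psiEquiv h2 : SL2 F →* PSL2 F) = H := by
  ext x
  constructor
  · rintro ⟨y, hy, rfl⟩
    exact hy
  · intro hx
    obtain ⟨y, rfl⟩ := proj_surjective x
    exact ⟨y, hx, rfl⟩

lemma center_bot (h2 : (2 : F) = 0) : center (SL2 F) = ⊥ := by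
  rw [eq_bot_iff]
  intro z hz
  rw [Subgroup.mem_bot]
  rcases center_eq z hz with h | h
  · exact h
  · rw [h, negS_of_two h2]

lemma card_comap_two (h2 : (2 : F) = 0) (H : Subgroup (PSL2 F)) : Nat.card (H.comap proj) = Nat.card H := by
  rw [Cfsg.Agent.Lib.PSL2Cnt.card_comap_proj, Subgroup.card_eq_one.mpr (center_bot h2), mul_one]

lemma card_UU : Nat.card (UU F) = Fintype.card F := by
  let φ : F → UU F := fun v => ⟨uu v, ⟨rfl, rfl⟩⟩
  have hφ : Function.Bijective φ := by
    constructor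
    · intro v w h
      have := congrArg (fun M : UU F => ee (M : SL2 F) 0 1) h
      exact this
    · rintro ⟨M, hM⟩
      obtain ⟨v, rfl⟩ := mem_UU_iff.mp hM
      exact ⟨v, rfl⟩
  rw [← Nat.card_congr (Equiv.ofBijective φ hφ), Nat.card_eq_fintype_card]

/-- A subgroup of `2`-part order is a Sylow subgroup. -/
lemma sylow_of_card {a : ℕ} (h4 : 4 ≤ Fintype.card F) (ha : Fintype.card F = 2 ^ a) {H : Subgroup (PSL2 F)}
    (hc : Nat.card H = 2 ^ a) : ∃ P : Sylow 2 (PSL2 F), H = P := by
  have ha0 : a ≠ 0 := by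
    rintro rfl
    rw [pow_zero] at ha
    omega
  have hfact : (Nat.card (PSL2 F)).factorization 2 = a := by
    have hG := card_PSL2_form (K := F)
    obtain ⟨k, hk⟩ : ∃ k, Fintype.card F = 2 * k := by
      rw [ha]
      exact dvd_pow_self 2 ha0
    have hk1 : 1 ≤ k := by omega
    have hgcd : Nat.gcd 2 (Fintype.card F - 1) = 1 := by
      apply (Nat.Prime.coprime_iff_not_dvd Nat.prime_two).mpr
      omega
    rw [hgcd, one_mul] at hG
    have hm : (Fintype.card F) ^ 2 = 2 * (2 * (k * k)) := by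
      rw [hk]
      ring
    have hkk : 1 ≤ k * k := Nat.mul_pos hk1 hk1
    have hm0 : (Fintype.card F) ^ 2 - 1 ≠ 0 := by omega
    have hm2 : ¬ 2 ∣ (Fintype.card F) ^ 2 - 1 := by omega
    rw [hG]
    nth_rewrite 1 [ha]
    rw [Nat.factorization_mul (by positivity) hm0, Finsupp.add_apply, Nat.Prime.factorization_pow Nat.prime_two,
      Finsupp.single_eq_same, Nat.factorization_eq_zero_of_not_dvd hm2, add_zero]
  exact ⟨Sylow.ofCard H (by rw [hc, hfact]), (Sylow.coe_ofCard H _).symm⟩

/-- Sylow `2`-subgroups act binarily. -/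
lemma bin_sylow {a : ℕ} (h4 : 4 ≤ Fintype.card F) (ha : Fintype.card F = 2 ^ a) (P : Sylow 2 (PSL2 F)) :
    Bin (P : Subgroup (PSL2 F)) := by
  have h2 := two_eq_zero_of_card h4 ha
  have hU : Nat.card ((UU F).map (psiEquiv h2 : SL2 F →* PSL2 F)) = 2 ^ a := by
    rw [Subgroup.card_map_of_injective (f := (psiEquiv h2 : SL2 F →* PSL2 F)) (psiEquiv h2).injective, card_UU, ha]
  obtain ⟨Q, hQ⟩ := sylow_of_card h4 ha hU
  obtain ⟨g, hg⟩ := MulAction.exists_smul_eq (PSL2 F) Q P
  have hB : Bin ((UU F).map (psiEquiv h2 : SL2 F →* PSL2 F)) := bin_UU.map_equiv (psiEquiv h2)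
  have hB2 := hB.conj g
  have e : conjSub g ((UU F).map (psiEquiv h2 : SL2 F →* PSL2 F)) = (P : Subgroup (PSL2 F)) := by
    rw [← hg, hQ, Sylow.coe_subgroup_smul]
    rfl
  rwa [e] at hB2

lemma no_root_of_odd {a : ℕ} (h2 : (2 : F) = 0) (ha : Fintype.card F = 2 ^ a) (hodd : Odd a) :
    ∀ ω : F, ω * ω + ω + 1 ≠ 0 := by
  classical
  intro ω hω
  have hω0 : ω ≠ 0 := by
    rintro rfl
    simp at hω
  have h3 : ω ^ 3 = 1 := by linear_combination (ω - 1) * hω
  have hω1 : ω ≠ 1 := by
    rintro rfl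
    apply one_ne_zero (α := F)
    linear_combination hω - h2
  let u : Fˣ := Units.mk0 ω hω0
  have hu3 : u ^ 3 = 1 := by
    apply Units.ext
    simpa [u] using h3
  have hu1 : u ≠ 1 := by
    intro h
    apply hω1
    have := congrArg Units.val h
    simpa [u] using this
  have hord : orderOf u = 3 := orderOf_eq_prime hu3 hu1
  have h5 : 3 ∣ Fintype.card F - 1 := by
    rw [← hord, ← Fintype.card_units]
    exact orderOf_dvd_card
  obtain ⟨k, rfl⟩ := hodd
  have h6 : 2 ^ (2 * k + 1) = 2 * 4 ^ k := by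
    rw [pow_succ, pow_mul]
    norm_num
    ring
  have h7 : 4 ^ k % 3 = 1 := by
    rw [Nat.pow_mod]
    norm_num
  rw [ha, h6] at h5
  omega

lemma exists_odd_of_no_root (h2 : (2 : F) = 0) (hω : ∀ ω : F, ω * ω + ω + 1 ≠ 0) :
    ∃ a : ℕ, Odd a ∧ Fintype.card F = 2 ^ a := by
  classical
  haveI hch : CharP F 2 := CharTwo.of_one_ne_zero_of_two_eq_zero (R := F) one_ne_zero h2
  obtain ⟨n, -, hn⟩ := FiniteField.card F 2
  refine ⟨n, ?_, hn⟩
  by_contra hodd
  obtain ⟨k, hk⟩ := Nat.not_odd_iff_even.mp hodd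
  have h5 : 3 ∣ Fintype.card F - 1 := by
    rw [hn, hk, ← two_mul, pow_mul]
    have h7 : 4 ^ k % 3 = 1 := by
      rw [Nat.pow_mod]
      norm_num
    norm_num
    omega
  haveI : Fact (Nat.Prime 3) := ⟨Nat.prime_three⟩
  rw [← Fintype.card_units, ← Nat.card_eq_fintype_card] at h5
  obtain ⟨u, hu⟩ := exists_prime_orderOf_dvd_card' 3 h5
  have hu3 : u ^ 3 = 1 := by
    rw [← hu]
    exact pow_orderOf_eq_one u
  have h3 : (u : F) ^ 3 = 1 := by
    have := congrArg Units.val hu3
    simpa using this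
  have hu1 : (u : F) ≠ 1 := by
    intro h
    have h6 : u = 1 := Units.ext h
    rw [h6, orderOf_one] at hu
    norm_num at hu
  apply hω (u : F)
  have h7 : ((u : F) - 1) * ((u : F) * (u : F) + (u : F) + 1) = 0 := by linear_combination h3
  exact (mul_eq_zero.mp h7).resolve_left (sub_ne_zero.mpr hu1)

/-- Subgroups of order three act binarily. -/
lemma bin_order3 {a : ℕ} (h4 : 4 ≤ Fintype.card F) (ha : Fintype.card F = 2 ^ a) (hodd : Odd a)
    {H : Subgroup (PSL2 F)} (h3 : Nat.card H = 3) : Bin H := by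
  have h2 := two_eq_zero_of_card h4 ha
  have hB := (bin_three h2 (no_root_of_odd h2 ha hodd) (H := H.comap proj)
    (by rw [card_comap_two h2, h3])).map_equiv (psiEquiv h2)
  rwa [psi_map] at hB

/-- **The classification of binary coset actions of `PSL₂`.** -/
theorem main (h4 : 4 ≤ Fintype.card F) (h5 : Fintype.card F ≠ 5) (H : Subgroup (PSL2 F)) (hH : H ≠ ⊤) :
    Bin H ↔ (H = ⊥ ∨ ((∃ a : ℕ, Fintype.card F = 2 ^ a) ∧ ∃ P : Sylow 2 (PSL2 F), H = P) ∨
        ((∃ a : ℕ, Odd a ∧ Fintype.card F = 2 ^ a) ∧ Nat.card H = 3)) := by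
  constructor
  · intro hB
    have hS := star_of_bin hB
    by_cases hbot : H = ⊥
    · exact Or.inl hbot
    right
    by_cases hU : ∃ A : SL2 F, proj A ∈ H ∧ proj A ≠ 1 ∧ tr A * tr A = 4
    · left
      obtain ⟨A, hA, hA1, ht⟩ := hU
      have hZ' : center (SL2 F) ≤ H.comap proj := by
        intro w hw
        rw [Subgroup.mem_comap, (proj_eq_one_iff w).mpr hw]
        exact H.one_mem
      have hH' : H.comap proj ≠ ⊤ := by
        intro h
        apply hH
        rw [eq_top_iff]
        intro x _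
        obtain ⟨y, rfl⟩ := proj_surjective x
        have : y ∈ H.comap proj := by rw [h]; trivial
        exact this
      obtain ⟨h2, c, hc⟩ := caseA (by rw [Nat.card_eq_fintype_card]; exact h4) hZ' hH'
        (hS.comap proj proj_surjective) (A := A) hA (not_center_of_proj_ne_one hA1) ht
      haveI hch : CharP F 2 := CharTwo.of_one_ne_zero_of_two_eq_zero (R := F) one_ne_zero h2
      obtain ⟨n, -, hn⟩ := FiniteField.card F 2
      refine ⟨⟨n, hn⟩, ?_⟩
      apply sylow_of_card h4 hn
      have e : conjSub c (H.comap proj) = UU F := by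
        ext M
        rw [hc, mem_UU_iff]
      have h6 := card_conjSub c (H.comap proj)
      rw [e, card_UU, card_comap_two h2, hn] at h6
      exact h6.symm
    · right
      push Not at hU
      have noU : ∀ A : SL2 F, proj A ∈ H → proj A ≠ 1 → tr A * tr A ≠ 4 := hU
      by_cases h2 : (2 : F) = 0
      · obtain ⟨hω, h3⟩ := even_case h2 h4 hbot hS noU
        exact ⟨exists_odd_of_no_root h2 hω, h3⟩
      · exfalso
        have hq : 7 ≤ Fintype.card F := by
          have hr : ringChar F ≠ 2 := by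
            intro h
            apply h2
            have := ringChar.Nat.cast_ringChar (R := F)
            rw [h] at this
            exact_mod_cast this
          have h6 := FiniteField.odd_card_of_char_ne_two hr
          omega
        exact odd_case h2 hq hH hbot hS noU
  · rintro (rfl | ⟨⟨a, ha⟩, P, rfl⟩ | ⟨⟨a, hodd, ha⟩, h3⟩)
    · exact bin_bot
    · exact bin_sylow h4 ha P
    · exact bin_order3 h4 ha hodd h3

end Cfsg.Agent.Lib.Bin77
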